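import Cfsg.Agent.H95.McL.Words

/-!
Kernel checks of the fixed cosets for McL.
-/

set_option autoImplicit false
set_option Elab.async false
set_option maxRecDepth 100000

namespace Cfsg.Agent.H95.McL

open Cfsg.Agent.Compute Cfsg.Agent.H95

theorem table_ok : tableOK = true := by decide +kernel

theorem gens_ok : gensOK = true := by decide +kernel

theorem steps_ok : stepsOK = true := by decide +kernel

theorem stab_ok : stabOK = true := by decide +kernel

theorem reps_ok : repsOK = true := by decide +kernel

theorem rep_zero_even : rpl 0 % 2 = 0 := by decide +kernel

theorem points_ok : pointsOK = true := by decide +kernel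

theorem nonFixed_ok : nonFixedOK = true := by decide +kernel

theorem fixed_shape : (fixedData.map Prod.fst).Nodup ∧
    fixedData.all (fun d => decide (d.1.1 < 20) && decide (d.1.2 < 40)) = true := by decide +kernel

theorem fixed_eqs : PermWord.eqsOK 9 275 mclSlp fixedEqs = true := by decide +kernel

end Cfsg.Agent.H95.McL
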