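import Cfsg.Agent.H95.PermWord.Basic
import Cfsg.Agent.H95.McL.SlpData
import Cfsg.Agent.H32.OutMcL.Data

/-!
Kernel check of the program of McL on 275 points.
-/

set_option autoImplicit false
set_option Elab.async false
set_option maxRecDepth 100000

namespace Cfsg.Agent.H95.McL

open Cfsg.Agent.Compute Cfsg.Agent.H95

theorem slp_ok' : PermIso.slpOK 9 275 5 [] mclSlp = true := by decide +kernel

theorem slp_ok : PermIso.slpOK 9 275 5 (mclSlp.map Prod.fst) mclSlp = true :=
  PermWord.slpOK_self slp_ok'

theorem slp_gens : allN 5 (fun k => Nat.beq (PermLower.codeAt mclSlp k)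
    (H32.OutMcL.vals.getD k 0)) = true := by decide +kernel

theorem slp_len : Nat.ble 5 mclSlp.length = true := by decide +kernel

theorem low_ok : PermLower.lowOK 9 275 mclSlp mclSteps [] = true := by decide +kernel

theorem bound_eq : PermLower.bound mclSteps = 898128000 := by decide +kernel

end Cfsg.Agent.H95.McL
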