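import Cfsg.Agent.H95.McL.Words

/-!
Kernel checks at 3 for McL.
-/

set_option autoImplicit false
set_option Elab.async false
set_option maxRecDepth 100000

namespace Cfsg.Agent.H95.McL

open Cfsg.Agent.Compute Cfsg.Agent.H95

theorem real_eqs : PermWord.eqsOK 9 275 mclSlp realEqs = true := by decide +kernel

theorem upper_eqs : PermWord.eqsOK 9 275 mclSlp upperEqs = true := by decide +kernel

theorem three_shape : (pairsCover &&
    (List.range 6).all (fun k => threeLetters.getD k 0 % 2 == 0) &&
    pairWit.all (fun p => decide (p.1 < 4) && decide (p.2.1 < 4))) = true := by decide +kernel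

theorem three_slp' : PermIso.slpOK 9 275 6 [] threeSlp = true := by decide +kernel

theorem three_slp : PermIso.slpOK 9 275 6 (threeSlp.map Prod.fst) threeSlp = true :=
  PermWord.slpOK_self three_slp'

theorem three_low : PermLower.lowOK 9 275 threeSlp threeSteps [] = true := by decide +kernel

theorem three_bound : PermLower.bound threeSteps = 729 := by decide +kernel

theorem three_code : allN 6 (fun k => Nat.ble (Nat.add k 1) threeLetters.length &&
      Nat.ble (Nat.add (nth 0 threeLetters k) 1) (Nat.mul 2 mclSlp.length) &&
      Nat.beq (PermLower.codeAt threeSlp k) (PermIso.operand mclSlp (nth 0 threeLetters k))) = true := by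
  decide +kernel

theorem image_slp' : PermIso.slpOK 9 275 3 [] imageSlp = true := by decide +kernel

theorem image_slp : PermIso.slpOK 9 275 3 (imageSlp.map Prod.fst) imageSlp = true :=
  PermWord.slpOK_self image_slp'

theorem image_low : PermLower.lowOK 9 275 imageSlp imageSteps [] = true := by decide +kernel

theorem image_bound : PermLower.bound imageSteps = 27 := by decide +kernel

theorem image_code : allN 3 (fun k => Nat.ble (Nat.add k 1) imageLetters.length &&
      Nat.ble (Nat.add (nth 0 imageLetters k) 1) (Nat.mul 2 mclSlp.length) &&
      Nat.beq (PermLower.codeAt imageSlp k) (PermIso.operand mclSlp (nth 0 imageLetters k))) = true := by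
  decide +kernel

end Cfsg.Agent.H95.McL
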