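import Cfsg.Agent.H95.McL.Words

/-!
Kernel checks at 2 and 5 for McL.
-/

set_option autoImplicit false
set_option Elab.async false
set_option maxRecDepth 100000

namespace Cfsg.Agent.H95.McL

open Cfsg.Agent.Compute Cfsg.Agent.H95 Cfsg.Agent.H94.Mult

theorem two_rules : twoCert.checkRules = true := by decide +kernel

theorem two_closed : twoCert.checkClosed = true := by decide +kernel

theorem two_forms : twoCert.checkForms = true := by decide +kernel

theorem two_conj : (twoConj.length == twoCert.sqEqs.length &&
    twoConjPairs.length == twoCert.cmEqs.length) = true := by decide +kernel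

theorem two_eqs : PermWord.eqsOK 9 275 mclSlp twoEqs = true := by decide +kernel

theorem two_slp' : PermIso.slpOK 9 275 7 [] twoSlp = true := by decide +kernel

theorem two_slp : PermIso.slpOK 9 275 7 (twoSlp.map Prod.fst) twoSlp = true :=
  PermWord.slpOK_self two_slp'

theorem two_low : PermLower.lowOK 9 275 twoSlp twoSteps [] = true := by decide +kernel

theorem two_bound : PermLower.bound twoSteps = 128 := by decide +kernel

theorem two_code : allN 7 (fun k => Nat.ble (Nat.add k 1) twoLetters.length &&
      Nat.ble (Nat.add (nth 0 twoLetters k) 1) (Nat.mul 2 mclSlp.length) &&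
      Nat.beq (PermLower.codeAt twoSlp k) (PermIso.operand mclSlp (nth 0 twoLetters k))) = true := by
  decide +kernel

theorem five_eqs : PermWord.eqsOK 9 275 mclSlp fiveEqs = true := by decide +kernel

theorem five_slp' : PermIso.slpOK 9 275 3 [] fiveSlp = true := by decide +kernel

theorem five_slp : PermIso.slpOK 9 275 3 (fiveSlp.map Prod.fst) fiveSlp = true :=
  PermWord.slpOK_self five_slp'

theorem five_low : PermLower.lowOK 9 275 fiveSlp fiveSteps [] = true := by decide +kernel

theorem five_bound : PermLower.bound fiveSteps = 125 := by decide +kernel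

theorem five_code : allN 3 (fun k => Nat.ble (Nat.add k 1) fiveLetters.length &&
      Nat.ble (Nat.add (nth 0 fiveLetters k) 1) (Nat.mul 2 mclSlp.length) &&
      Nat.beq (PermLower.codeAt fiveSlp k) (PermIso.operand mclSlp (nth 0 fiveLetters k))) = true := by
  decide +kernel

theorem five_even : (fl 0 % 2 == 0 && fl 1 % 2 == 0 && fl 2 % 2 == 0) = true := by decide +kernel

end Cfsg.Agent.H95.McL
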