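import Cfsg.Agent.H95.PermLower

/-! Generated data: the cocycle and the fixed cosets. -/

set_option autoImplicit false
set_option maxRecDepth 100000

namespace Cfsg.Agent.H95.McL

open Cfsg.Agent.H95

/-- Letters of the commuting pair. -/
def pairLetters : List ℕ := [380, 384]

/-- Common fixed points as ordered pairs. -/
def fixPairs : List (ℕ × ℕ) := [(0, 6), (0, 242), (0, 246), (0, 266), (6, 0), (6, 242), (6, 246), (6, 266), (242, 0), (242, 6), (242, 246), (242, 266), (246, 0), (246, 6), (246, 242), (246, 266), (266, 0), (266, 6), (266, 242), (266, 246)]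

/-- The common fixed points. -/
def fixPts : List ℕ := [0, 6, 242, 246, 266]

/-- Letters moving the two base points to a pair. -/
def moveLetters : List ℕ := [516, 524, 540, 546, 558, 568, 580, 590, 604, 612, 622, 634, 644, 654, 666, 674, 686, 694, 706, 714]

/-- Letters of the coset representatives. -/
def repLetters : List ℕ := [718, 722, 726, 732, 736, 742, 746, 750, 756, 766, 770, 772, 778, 784, 788, 792, 796, 800, 804, 806, 810, 814, 818, 822, 828, 830, 836, 842, 844, 848, 852, 856, 860, 864, 868, 872, 874, 878, 880, 886]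

/-- The fixed cosets with the exponents of the two conjugates. -/
def fixedData : List ((ℕ × ℕ) × List ℕ × List ℕ) := [((0, 27), [0, 0, 0, 1, 2, 2], [0, 1, 0, 1, 1, 1]),
  ((0, 28), [2, 0, 2, 1, 0, 2], [2, 0, 2, 2, 0, 1]),
  ((0, 29), [2, 0, 2, 2, 1, 1], [2, 1, 2, 1, 2, 2]),
  ((0, 37), [0, 0, 0, 1, 0, 1], [0, 2, 0, 1, 0, 2]),
  ((1, 2), [1, 0, 1, 1, 0, 0], [2, 0, 2, 1, 1, 1]),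
  ((1, 5), [0, 1, 0, 1, 0, 0], [1, 0, 1, 0, 0, 1]),
  ((1, 6), [2, 0, 2, 0, 0, 0], [0, 1, 0, 0, 0, 2]),
  ((1, 24), [0, 2, 0, 1, 0, 0], [2, 2, 2, 1, 2, 2]),
  ((2, 32), [0, 2, 0, 0, 0, 2], [1, 0, 1, 0, 2, 0]),
  ((2, 34), [1, 2, 1, 0, 2, 2], [1, 0, 1, 1, 1, 2]),
  ((2, 36), [0, 0, 0, 2, 1, 1], [0, 2, 0, 1, 2, 1]),
  ((2, 39), [1, 2, 1, 0, 0, 1], [2, 0, 2, 1, 1, 0]),
  ((3, 27), [1, 2, 1, 0, 2, 2], [1, 0, 1, 2, 1, 0]),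
  ((3, 28), [1, 1, 1, 2, 0, 2], [1, 2, 1, 0, 1, 2]),
  ((3, 29), [0, 2, 0, 1, 1, 1], [0, 2, 0, 2, 2, 0]),
  ((3, 37), [2, 1, 2, 2, 0, 1], [1, 1, 1, 1, 2, 1]),
  ((4, 9), [1, 2, 1, 0, 1, 2], [2, 1, 2, 2, 2, 1]),
  ((4, 15), [1, 1, 1, 0, 2, 0], [0, 2, 0, 2, 1, 0]),
  ((4, 19), [0, 1, 0, 2, 1, 0], [0, 1, 0, 1, 2, 0]),
  ((4, 23), [1, 0, 1, 1, 2, 1], [0, 2, 0, 2, 1, 2]),
  ((5, 2), [2, 1, 2, 2, 0, 2], [1, 2, 1, 1, 2, 2]),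
  ((5, 5), [2, 1, 2, 2, 1, 1], [2, 1, 2, 2, 0, 2]),
  ((5, 6), [2, 0, 2, 2, 2, 2], [2, 2, 2, 2, 0, 1]),
  ((5, 24), [0, 0, 0, 2, 0, 1], [2, 1, 2, 2, 1, 1]),
  ((6, 32), [1, 0, 1, 1, 0, 2], [2, 0, 2, 0, 1, 1]),
  ((6, 34), [0, 2, 0, 2, 2, 2], [1, 1, 1, 0, 0, 2]),
  ((6, 36), [2, 2, 2, 2, 1, 1], [0, 1, 0, 2, 0, 1]),
  ((6, 39), [2, 2, 2, 0, 0, 1], [1, 1, 1, 1, 2, 2]),
  ((7, 0), [2, 2, 2, 2, 2, 1], [2, 2, 2, 0, 2, 1]),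
  ((7, 3), [1, 0, 1, 2, 2, 0], [0, 2, 0, 0, 2, 0]),
  ((7, 14), [0, 1, 0, 2, 1, 2], [0, 1, 0, 1, 1, 2]),
  ((7, 30), [1, 1, 1, 1, 1, 0], [1, 0, 1, 1, 1, 0]),
  ((8, 9), [1, 2, 1, 0, 0, 0], [2, 1, 2, 1, 1, 2]),
  ((8, 15), [0, 2, 0, 0, 0, 0], [2, 1, 2, 2, 2, 0]),
  ((8, 19), [1, 0, 1, 2, 0, 0], [0, 0, 0, 2, 1, 0]),
  ((8, 23), [2, 1, 2, 0, 0, 0], [1, 0, 1, 2, 2, 1]),
  ((9, 7), [0, 2, 0, 0, 2, 1], [1, 2, 1, 2, 1, 0]),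
  ((9, 11), [1, 2, 1, 0, 1, 0], [1, 1, 1, 2, 1, 2]),
  ((9, 12), [2, 2, 2, 1, 1, 2], [2, 1, 2, 1, 2, 0]),
  ((9, 22), [0, 0, 0, 1, 2, 0], [1, 2, 1, 2, 2, 1]),
  ((10, 4), [2, 0, 2, 1, 1, 2], [2, 1, 2, 0, 1, 0]),
  ((10, 16), [2, 1, 2, 1, 1, 0], [1, 2, 1, 2, 2, 1]),
  ((10, 21), [1, 0, 1, 2, 2, 1], [0, 0, 0, 1, 2, 0]),
  ((10, 35), [1, 2, 1, 1, 2, 0], [1, 0, 1, 2, 1, 2]),
  ((11, 0), [0, 1, 0, 0, 1, 2], [0, 0, 0, 2, 0, 0]),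
  ((11, 3), [1, 2, 1, 0, 1, 0], [1, 1, 1, 2, 0, 0]),
  ((11, 14), [1, 2, 1, 2, 2, 1], [0, 0, 0, 1, 0, 0]),
  ((11, 30), [1, 2, 1, 2, 2, 0], [0, 1, 0, 0, 0, 0]),
  ((12, 10), [2, 0, 2, 1, 2, 0], [1, 0, 1, 1, 0, 1]),
  ((12, 17), [2, 2, 2, 0, 2, 1], [1, 2, 1, 2, 2, 2]),
  ((12, 18), [0, 1, 0, 0, 1, 0], [1, 1, 1, 0, 0, 2]),
  ((12, 26), [0, 0, 0, 1, 1, 2], [0, 2, 0, 2, 1, 1]),
  ((13, 7), [2, 0, 2, 2, 2, 1], [1, 0, 1, 2, 2, 0]),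
  ((13, 11), [2, 0, 2, 2, 1, 0], [0, 1, 0, 1, 2, 1]),
  ((13, 12), [2, 2, 2, 0, 1, 2], [0, 2, 0, 0, 1, 0]),
  ((13, 22), [2, 2, 2, 2, 2, 0], [0, 0, 0, 2, 1, 2]),
  ((14, 9), [2, 1, 2, 0, 2, 2], [1, 1, 1, 1, 0, 2]),
  ((14, 15), [1, 2, 1, 0, 0, 2], [2, 0, 2, 1, 1, 1]),
  ((14, 19), [2, 1, 2, 0, 0, 1], [1, 0, 1, 2, 2, 2]),
  ((14, 23), [0, 1, 0, 2, 1, 1], [0, 2, 0, 0, 0, 1]),
  ((15, 8), [0, 1, 0, 1, 2, 2], [2, 1, 2, 2, 1, 2]),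
  ((15, 13), [2, 0, 2, 2, 0, 2], [2, 0, 2, 1, 2, 0]),
  ((15, 25), [0, 2, 0, 2, 1, 1], [2, 1, 2, 0, 2, 1]),
  ((15, 31), [2, 2, 2, 0, 0, 1], [2, 2, 2, 1, 1, 0]),
  ((16, 10), [2, 2, 2, 0, 2, 1], [0, 1, 0, 1, 0, 2]),
  ((16, 17), [0, 1, 0, 0, 1, 0], [1, 2, 1, 1, 1, 1]),
  ((16, 18), [0, 2, 0, 1, 1, 2], [0, 2, 0, 2, 0, 1]),
  ((16, 26), [2, 0, 2, 0, 2, 0], [1, 0, 1, 1, 2, 2]),
  ((17, 9), [0, 2, 0, 2, 1, 1], [1, 0, 1, 2, 1, 1]),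
  ((17, 15), [0, 2, 0, 1, 0, 1], [1, 0, 1, 2, 0, 1]),
  ((17, 19), [0, 1, 0, 2, 0, 2], [2, 0, 2, 1, 0, 2]),
  ((17, 23), [0, 0, 0, 0, 2, 2], [1, 0, 1, 1, 2, 2]),
  ((18, 8), [1, 2, 1, 1, 2, 2], [1, 0, 1, 1, 0, 0]),
  ((18, 13), [1, 0, 1, 2, 0, 2], [2, 2, 2, 2, 0, 0]),
  ((18, 25), [0, 0, 0, 1, 1, 1], [2, 0, 2, 2, 0, 0]),
  ((18, 31), [1, 1, 1, 2, 0, 1], [2, 0, 2, 0, 0, 0]),
  ((19, 7), [2, 2, 2, 2, 2, 0], [2, 2, 2, 1, 0, 1]),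
  ((19, 11), [2, 1, 2, 2, 2, 1], [0, 2, 0, 0, 2, 2]),
  ((19, 12), [2, 0, 2, 0, 1, 0], [2, 0, 2, 1, 0, 2]),
  ((19, 22), [0, 1, 0, 2, 1, 2], [0, 0, 0, 2, 1, 1])]

/-- The block of each point. -/
def blockOf : ℕ := 0x54921aa7aaaaaa6aaa3a8a6aa38783a76aaa1a1aaaaa2a2aaaaaaa9aaaaaaa9aaaaaaaaaa4aaaaa4aaaaaaaaaaaaaaaaaaaaaaa5aaa5aaaaaaaaaaaaaaaaaaaaaaaaaaaaaaaaaa0aaaa0aaaaaaaaaaaaaaaaaaaaaaaaaaaaaaaaaaaaaaaaaaaaaaaaaaaaaaaaaaaaaaaaaaaaaaaaaaaaaaaaaaaaaaaaaaaaaaaaaaaaaaaaaaaaaaaaaaaaaaaaaaaaaa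

/-- A point of each block. -/
def blockPts : List ℕ := [126, 237, 270, 255, 194, 273, 251, 246, 245, 271]

/-- The permutations of the blocks by the Sylow 3-subgroup. -/
def blockTable : List (List ℕ) := [[0, 1, 2, 3, 4, 5, 6, 7, 8, 9, 10], [3, 9, 5, 6, 1, 8, 0, 7, 2, 4, 10], [6, 4, 8, 0, 9, 2, 3, 7, 5, 1, 10], [2, 0, 1, 5, 6, 9, 8, 7, 4, 3, 10], [5, 3, 9, 8, 0, 4, 2, 7, 1, 6, 10], [8, 6, 4, 2, 3, 1, 5, 7, 9, 0, 10], [1, 2, 0, 9, 8, 3, 4, 7, 6, 5, 10], [9, 5, 3, 4, 2, 6, 1, 7, 0, 8, 10], [4, 8, 6, 1, 5, 0, 9, 7, 3, 2, 10]]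

/-- The matrices. -/
def matTable : List (List (List ℕ)) := [[[1, 0, 0, 0], [0, 1, 0, 0], [0, 0, 1, 0], [0, 0, 0, 1]],
  [[0, 2, 1, 1], [2, 2, 1, 2], [2, 2, 2, 1], [0, 1, 0, 0]],
  [[0, 1, 1, 2], [0, 0, 0, 1], [2, 1, 2, 2], [2, 2, 1, 2]],
  [[2, 0, 0, 1], [2, 1, 0, 2], [1, 0, 1, 1], [1, 0, 1, 0]],
  [[0, 2, 2, 2], [2, 2, 0, 1], [2, 2, 0, 2], [2, 1, 0, 2]],
  [[2, 1, 0, 0], [1, 0, 1, 0], [1, 1, 1, 0], [2, 2, 0, 1]],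
  [[2, 0, 1, 2], [2, 1, 2, 1], [1, 0, 2, 2], [0, 0, 1, 2]],
  [[2, 2, 1, 0], [0, 2, 1, 0], [1, 2, 2, 0], [2, 1, 2, 1]],
  [[0, 1, 0, 1], [0, 0, 1, 2], [2, 1, 1, 1], [0, 2, 1, 0]]]

/-- The linear forms. -/
def formTable : List (List ℕ) := [[0, 0, 0, 0], [0, 1, 1, 0], [1, 2, 1, 0], [0, 0, 0, 0], [0, 1, 1, 0], [1, 2, 1, 0], [0, 0, 0, 0], [0, 1, 1, 0], [1, 2, 1, 0]]

/-- The coefficient. -/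
def kappa : ℕ := 0

end Cfsg.Agent.H95.McL
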