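import Cfsg.Agent.H95.PermWord.Inverted
import Cfsg.Agent.H95.KilledTwo
import Cfsg.Agent.H95.McL.SlpData
import Cfsg.Agent.H95.McL.TwoFiveData
import Cfsg.Agent.H95.McL.ThreeData
import Cfsg.Agent.H95.McL.CocycleData

/-!
Word equations and tests on the certified data of McL.
-/

set_option autoImplicit false

namespace Cfsg.Agent.H95.McL

open Cfsg.Agent.Compute Cfsg.Agent.H95 Cfsg.Agent.H94.Mult

/-- A product of powers of letters. -/
def powWord (ls es : List ℕ) : List ℕ := (ls.zip es).flatMap fun p => List.replicate p.2 p.1

/-- The inverse word. -/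
def invWord (u : List ℕ) : List ℕ := u.reverse.map PermWord.flipL

/-- The commutator of a letter with a word. -/
def comWord (x : ℕ) (u : List ℕ) : List ℕ := x :: u ++ PermWord.flipL x :: invWord u

/-! ### The Sylow 2-subgroup -/

/-- The letters of a normal form. -/
def twoWord (u : ℕ) : List ℕ := (bitsOf twoCert.R.n u).map fun k => twoLetters.getD k 0

/-- The equations at 2. -/
def twoEqs : List (List ℕ × List ℕ) :=
  (List.range twoCert.R.n).flatMap (fun j =>
    ([twoLetters.getD j 0, twoLetters.getD j 0], twoWord (twoCert.R.sqRule j).1) ::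
      (List.range j).map fun i => ([twoLetters.getD j 0, twoLetters.getD i 0],
        [twoLetters.getD i 0, twoLetters.getD j 0] ++ twoWord (twoCert.R.cmRule j i).1)) ++
  (twoCert.sqEqs.zip twoConj).map (fun p => (p.2 :: twoWord p.1.1, twoWord p.1.2 ++ [p.2])) ++
  (twoCert.cmEqs.zip twoConjPairs).flatMap (fun p =>
    [(p.2 :: twoWord p.1.1.1, twoWord p.1.2.1 ++ [p.2]),
      (p.2 :: twoWord p.1.1.2, twoWord p.1.2.2 ++ [p.2])])

/-! ### The Sylow 5-subgroup -/

/-- A generator. -/
def fl (k : ℕ) : ℕ := fiveLetters.getD k 0

/-- A pair with its witness. -/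
def fivePair (k : ℕ) : ℕ × ℕ × ℕ × ℕ :=
  (fl k, fl 2, (fiveWit.getD k (0, 0)).1, (fiveWit.getD k (0, 0)).2)

/-- The equations at 5. -/
def fiveEqs : List (List ℕ × List ℕ) :=
  [(List.replicate 5 (fl 0), []), (List.replicate 5 (fl 1), []), (List.replicate 5 (fl 2), []),
    ([fl 0, fl 1], [fl 2, fl 1, fl 0])] ++
  (List.range 2).flatMap fun k => [([fl k, fl 2], [fl 2, fl k]),
    ([(fivePair k).2.2.1, fl k], [(PermWord.InvCert.target (fivePair k)).1, (fivePair k).2.2.1]),
    ([(fivePair k).2.2.1, fl 2], [(PermWord.InvCert.target (fivePair k)).2, (fivePair k).2.2.1])]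

/-! ### The Sylow 3-subgroup -/

/-- A generator of the normal part. -/
def bl (k : ℕ) : ℕ := threeLetters.getD k 0

/-- The first generator of the complement. -/
def rl : ℕ := threeLetters.getD 4 0

/-- The second generator of the complement. -/
def sl : ℕ := threeLetters.getD 5 0

/-- A word of the normal part. -/
def vWord (es : List ℕ) : List ℕ := powWord [bl 0, bl 1, bl 2, bl 3] es

/-- A column of a matrix of the data. -/
def colOf (m k : ℕ) : List ℕ :=
  (List.range 4).map fun l => ((matTable.getD m []).getD l []).getD k 0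

/-- A centralising element. -/
def centOf (j : ℕ) : ℕ × List ℕ × ℕ × List ℕ × List ℕ := centWit.getD j (0, [], 0, [], [])

/-- The word of a centralising element. -/
def centWord (j : ℕ) : List ℕ := vWord (centOf j).2.1

/-- One of the three pairs. -/
def pairOfExp (i : ℕ) : List ℕ × List ℕ := pairExp.getD i ([], [])

/-- A relation. -/
def relOf (k : ℕ) : List ℕ × List ℕ × List ℕ := relData.getD k ([], [], [])

/-- The first side of a relation. -/
def relLeft (k : ℕ) : List ℕ :=
  (List.range 3).flatMap (fun i => (List.replicate ((relOf k).1.getD i 0)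
    (vWord (pairOfExp i).1)).flatten) ++ comWord sl (vWord (relOf k).2.1) ++
  ((List.replicate ((relOf k).2.2.getD 0 0) (centWord 0)).flatten ++
    (List.replicate ((relOf k).2.2.getD 1 0) (centWord 1)).flatten)

/-- The second side of a relation. -/
def relRight (k : ℕ) : List ℕ :=
  (List.range 3).flatMap (fun i => (List.replicate ((relOf k).1.getD i 0)
    (vWord (pairOfExp i).2)).flatten) ++ (vWord (relOf k).2.1 ++ rl :: invWord (vWord (relOf k).2.1) ++ [PermWord.flipL rl]) ++
  ((List.replicate ((relOf k).2.2.getD 2 0) (centWord 2)).flatten ++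
    (List.replicate ((relOf k).2.2.getD 3 0) (centWord 3)).flatten)

/-- The equations of the realisation at 3. -/
def realEqs : List (List ℕ × List ℕ) :=
  (List.range 6).map (fun k => (List.replicate 3 (threeLetters.getD k 0), ([] : List ℕ))) ++
  ([([rl, sl], [sl, rl])] ++
  ((List.range 4).flatMap (fun i => (List.range 4).map fun j => ([bl i, bl j], [bl j, bl i])) ++
  (List.range 4).flatMap fun k => [([rl, bl k], vWord (colOf 3 k) ++ [rl]),
    ([sl, bl k], vWord (colOf 1 k) ++ [sl])]))

/-- The equations of the upper bound at 3. -/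
def upperEqs : List (List ℕ × List ℕ) :=
  pairWit.flatMap (fun p => [
    ([p.2.2.1, bl p.1], [(PermWord.InvCert.target (bl p.1, bl p.2.1, p.2.2.1, p.2.2.2)).1, p.2.2.1]),
    ([p.2.2.1, bl p.2.1], [(PermWord.InvCert.target (bl p.1, bl p.2.1, p.2.2.1, p.2.2.2)).2, p.2.2.1])]) ++
  ((List.range 4).flatMap (fun j =>
    [((if j < 2 then rl else sl) :: centWord j, centWord j ++ [if j < 2 then rl else sl]),
      ([(centOf j).2.2.1, if j < 2 then rl else sl],
        powWord [rl, sl] (centOf j).2.2.2.1 ++ [(centOf j).2.2.1]),
      ((centOf j).2.2.1 :: centWord j,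
        powWord [rl, sl] (centOf j).2.2.2.2 ++ [(centOf j).2.2.1])]) ++
  ((List.range 3).map (fun i => ([imageLetters.getD i 0],
      comWord rl (vWord (pairOfExp i).1) ++ comWord sl (vWord (pairOfExp i).2))) ++
  (List.range 4).flatMap fun k => [([bl k], relLeft k), (([] : List ℕ), relRight k),
    (([] : List ℕ), relLeft (k + 4)), ([bl k], relRight (k + 4))]))

/-- Pairs of the normal part with witnesses cover all pairs. -/
def pairsCover : Bool :=
  (List.range 4).all fun i => (List.range 4).all fun j => i == j ||
    pairWit.any fun p => (p.1 == i && p.2.1 == j) || (p.1 == j && p.2.1 == i)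

/-! ### The fixed cosets -/

/-- The first letter of the commuting pair. -/
def ul : ℕ := pairLetters.getD 0 0

/-- The second letter of the commuting pair. -/
def wl : ℕ := pairLetters.getD 1 0

/-- The letter moving the base points to a pair. -/
def mvl (p : ℕ) : ℕ := moveLetters.getD p 0

/-- A representative. -/
def rpl (k : ℕ) : ℕ := repLetters.getD k 0

/-- A word of the Sylow 3-subgroup. -/
def subWord (e : List ℕ) : List ℕ :=
  vWord (e.take 4) ++ powWord [rl, sl] (e.drop 4)

/-- The equations of the fixed cosets. -/
def fixedEqs : List (List ℕ × List ℕ) :=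
  [([ul, ul, ul], []), ([wl, wl, wl], []), ([ul, wl], [wl, ul])] ++
  fixedData.flatMap fun d =>
    [([ul, mvl d.1.1, rpl d.1.2], [mvl d.1.1, rpl d.1.2] ++ subWord d.2.1),
      ([wl, mvl d.1.1, rpl d.1.2], [mvl d.1.1, rpl d.1.2] ++ subWord d.2.2)]

/-- The image of a point under a word. -/
noncomputable def applyWord (u : List ℕ) (i : ℕ) : ℕ :=
  u.foldr (fun r acc => getP 9 (PermIso.operand mclSlp r) acc) i

/-- The block of a point. -/
noncomputable def blk (p : ℕ) : ℕ := getP 4 blockOf p

/-- A word may induce a permutation of the blocks from the table. -/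
noncomputable def inQ (u : List ℕ) : Bool :=
  blockTable.any fun row => blockPts.all fun c => Nat.beq (blk (applyWord u c)) (row.getD (blk c) 0)

/-- The blocks table is closed and contains the identity. -/
noncomputable def tableOK : Bool :=
  (blockTable.any fun row => (List.range 11).all fun i => Nat.beq (row.getD i 0) i) &&
  (blockTable.all fun a => blockTable.all fun b => blockTable.any fun c =>
    (List.range 11).all fun i => Nat.beq (c.getD i 0) (a.getD (b.getD i 0) 0)) &&
  allN 275 (fun p => Nat.ble (Nat.add (blk p) 1) 11) &&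
  blockPts.all (fun c => Nat.ble (Nat.add c 1) 275)

/-- The generators of the Sylow 3-subgroup respect the table and fix the base points. -/
noncomputable def gensOK : Bool :=
  (List.range 6).all fun k => (blockTable.any fun row =>
    allN 275 fun p => Nat.beq (blk (applyWord [threeLetters.getD k 0] p)) (row.getD (blk p) 0))

/-- The base points and the orbit sizes. -/
noncomputable def stepsOK : Bool :=
  match mclSteps with
  | s₀ :: s₁ :: _ => Nat.beq (Nat.mul s₀.orb.length s₁.orb.length) 30800 && Nat.beq s₀.base 0 &&
      Nat.beq s₁.base 6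
  | _ => false

/-- The letters of the representatives and of the Sylow 3-subgroup fix the base points. -/
noncomputable def stabOK : Bool :=
  Nat.beq repLetters.length 40 &&
  (repLetters ++ threeLetters).all fun r =>
    Nat.ble (Nat.add r 1) (Nat.mul 2 mclSlp.length) && Nat.beq (applyWord [r] 0) 0 &&
      Nat.beq (applyWord [r] 6) 6

/-- The representatives lie in different cosets. -/
noncomputable def repsOK : Bool :=
  (List.range 40).all fun i => (List.range i).all fun j =>
    !inQ [PermWord.flipL (rpl i), rpl j] && Nat.beq (Nat.mod (rpl i) 2) 0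

/-- The pairs of fixed points. -/
noncomputable def pointsOK : Bool :=
  (allN 275 fun p => !(Nat.beq (applyWord [ul] p) p && Nat.beq (applyWord [wl] p) p) ||
    fixPts.contains p) &&
  (fixPts.all fun q => fixPts.all fun s => Nat.beq q s || fixPairs.contains (q, s)) &&
  decide fixPairs.Nodup && Nat.beq fixPairs.length 20 &&
  ((List.range 20).all fun p => Nat.beq (Nat.mod (mvl p) 2) 0 &&
    Nat.beq (applyWord [mvl p] 0) (fixPairs.getD p (0, 0)).1 &&
    Nat.beq (applyWord [mvl p] 6) (fixPairs.getD p (0, 0)).2) &&
  (pairLetters ++ moveLetters).all fun r => Nat.ble (Nat.add r 1) (Nat.mul 2 mclSlp.length)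

/-- The other cosets are not fixed. -/
noncomputable def nonFixedOK : Bool :=
  (List.range 20).all fun p => (List.range 40).all fun k =>
    (fixedData.map Prod.fst).contains (p, k) ||
      !inQ [PermWord.flipL (rpl k), PermWord.flipL (mvl p), ul, mvl p, rpl k] ||
      !inQ [PermWord.flipL (rpl k), PermWord.flipL (mvl p), wl, mvl p, rpl k]

end Cfsg.Agent.H95.McL
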