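import Cfsg.Agent.H95.McL.Perm
import Cfsg.Agent.H95.McL.Words

/-!
Shared notation for the elements of McL given by letters.
-/

set_option autoImplicit false

namespace Cfsg.Agent.H95.McL

open Cfsg Cfsg.Agent.Compute Cfsg.Agent.H95

/-- The element of a letter. -/
noncomputable abbrev we (r : ℕ) : WGrp := PermWord.el 9 275 5 mclSlp r

/-- The element of a word. -/
noncomputable abbrev wp (u : List ℕ) : WGrp := (u.map we).prod

theorem wp_replicate (n r : ℕ) : wp (List.replicate n r) = we r ^ n := by simp [wp]

theorem wp_append (u v : List ℕ) : wp (u ++ v) = wp u * wp v := by simp [wp]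

theorem wp_cons (r : ℕ) (u : List ℕ) : wp (r :: u) = we r * wp u := rfl

theorem wp_nil : wp [] = 1 := rfl

theorem wp_flatten_replicate (n : ℕ) (u : List ℕ) :
    wp (List.replicate n u).flatten = wp u ^ n := by
  induction n with
  | zero => rfl
  | succ n ih => rw [List.replicate_succ, List.flatten_cons, wp_append, ih, pow_succ']

theorem we_flip {r : ℕ} (hr : r % 2 = 0) : we (PermWord.flipL r) = (we r)⁻¹ :=
  PermWord.InvCert.el_flip hr

theorem wp_invWord {u : List ℕ} (hu : ∀ r ∈ u, r % 2 = 0) : wp (invWord u) = (wp u)⁻¹ := by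
  induction u with
  | nil => simp [invWord, wp]
  | cons r t ih =>
    rw [show invWord (r :: t) = invWord t ++ [PermWord.flipL r] by simp [invWord], wp_append,
      ih fun x hx => hu x (List.mem_cons_of_mem _ hx), wp_cons r t, mul_inv_rev, wp_cons, wp_nil,
      mul_one, we_flip (hu r List.mem_cons_self)]

theorem wp_powWord : ∀ (ls es : List ℕ),
    wp (powWord ls es) = ((ls.zip es).map fun p => we p.1 ^ p.2).prod := by
  intro ls es
  unfold powWord
  induction ls.zip es with
  | nil => rfl
  | cons p t ih => rw [List.flatMap_cons, wp_append, ih, wp_replicate, List.map_cons, List.prod_cons]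

theorem not_dvd_index {l k : ℕ} {H : Subgroup WGrp} (hd : l ^ k ∣ Nat.card H)
    (hn : ¬ l ^ (k + 1) ∣ 898128000) : ¬ l ∣ H.index := fun hi => hn (by
  rw [← card_wGrp, ← H.card_mul_index, pow_succ]
  exact mul_dvd_mul hd hi)

end Cfsg.Agent.H95.McL
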