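import Cfsg.Agent.H95.Transfer.SplitModel
import Cfsg.Agent.H95.McL.CocycleData

/-!
The model of the Sylow 3-subgroup of McL with its cocycle.
-/

set_option autoImplicit false
set_option Elab.async false
set_option maxRecDepth 100000

namespace Cfsg.Agent.H95.McL

open Cfsg.Agent.H95

/-- The datum of the cocycle. -/
def cocData : SplitModel.Data where
  M i j := fun a b =>
    ((((matTable.getD (3 * i.val + j.val) []).getD a.val []).getD b.val 0 : ℕ) : ZMod 3)
  L i j := fun a => (((formTable.getD (3 * i.val + j.val) []).getD a.val 0 : ℕ) : ZMod 3)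
  κ := (kappa : ZMod 3)

/-- The element of the model of a list of exponents. -/
def elOfList (e : List ℕ) : SplitModel.El :=
  (fun a => ((e.getD a.val 0 : ℕ) : ZMod 3), ((e.getD 4 0 : ℕ) : ZMod 3), ((e.getD 5 0 : ℕ) : ZMod 3))

theorem coc_valid : cocData.Valid := by
  unfold SplitModel.Data.Valid
  decide +kernel

/-- The pairing of the fixed cosets. -/
def fixedSum : ZMod 3 :=
  (fixedData.map fun d => cocData.coc (elOfList d.2.1) (elOfList d.2.2) -
    cocData.coc (elOfList d.2.2) (elOfList d.2.1)).sum

theorem fixed_sum : fixedSum = 2 := by decide +kernel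

theorem fixed_data_lengths :
    fixedData.all (fun d => decide (d.2.1.length = 6) && decide (d.2.2.length = 6)) = true := by
  decide +kernel

end Cfsg.Agent.H95.McL
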