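import Cfsg.Agent.H95.McL.CheckThree
import Cfsg.Agent.H95.McL.Model
import Cfsg.Agent.H95.McL.Common

/-!
The Sylow 3-subgroup of McL as a split extension.
-/

set_option autoImplicit false
set_option maxRecDepth 8000

namespace Cfsg.Agent.H95.McL

open Cfsg Cfsg.Agent.Compute Cfsg.Agent.H95

attribute [local irreducible] PermLower.lowOK PermIso.slpOK mclSlp mclSteps threeSlp threeLetters
  matTable realEqs permDen getP

theorem eq_real {u v : List ℕ} (h : (u, v) ∈ realEqs) : wp u = wp v :=
  PermWord.eq_of_eqsOK two_pow_nine slp_ok real_eqs h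

/-- A generator of the normal part. -/
noncomputable def bW (k : Fin 4) : WGrp := we (bl k)

/-- The first generator of the complement. -/
noncomputable def rW : WGrp := we rl

/-- The second generator of the complement. -/
noncomputable def sW : WGrp := we sl

theorem three_even {k : ℕ} (hk : k < 6) : threeLetters.getD k 0 % 2 = 0 := by
  have h := three_shape
  simp only [Bool.and_eq_true, List.all_eq_true, List.mem_range, beq_iff_eq] at h
  exact h.1.2 k hk

theorem cube {k : ℕ} (hk : k < 6) : we (threeLetters.getD k 0) ^ 3 = 1 := by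
  rw [← wp_replicate]
  exact eq_real (v := []) (by
    unfold realEqs
    exact List.mem_append_left _ (List.mem_map.2 ⟨k, List.mem_range.2 hk, rfl⟩))

theorem rs_comm : Commute rW sW := by
  have h := eq_real (u := [rl, sl]) (v := [sl, rl]) (by
    unfold realEqs
    exact List.mem_append_right _ (List.mem_append_left _ List.mem_cons_self))
  simpa [wp, Commute, SemiconjBy, rW, sW] using h

theorem bb_comm (i j : Fin 4) : Commute (bW i) (bW j) := by
  have h := eq_real (u := [bl i, bl j]) (v := [bl j, bl i]) (by
    unfold realEqs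
    exact List.mem_append_right _ (List.mem_append_right _ (List.mem_append_left _
      (List.mem_flatMap.2 ⟨i, List.mem_range.2 i.2,
        List.mem_map.2 ⟨j, List.mem_range.2 j.2, rfl⟩⟩))))
  simpa [wp, Commute, SemiconjBy, bW] using h

theorem wp_vWord (a b c d : ℕ) :
    wp (vWord [a, b, c, d]) = bW 0 ^ a * bW 1 ^ b * bW 2 ^ c * bW 3 ^ d := by
  rw [vWord, wp_powWord]
  simp [bW, mul_assoc]

theorem wp_rsWord (a b : ℕ) : wp (powWord [rl, sl] [a, b]) = rW ^ a * sW ^ b := by
  rw [wp_powWord]
  simp [rW, sW]

theorem zp_natCast {g : WGrp} (hg : g ^ 3 = 1) (n : ℕ) : SplitModel.zp g (n : ZMod 3) = g ^ n := by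
  rw [SplitModel.zp, ZMod.val_natCast, ← pow_mod_orderOf, ← pow_mod_orderOf g n,
    Nat.mod_mod_of_dvd _ (orderOf_dvd_of_pow_eq_one hg)]

theorem bW_cube (k : Fin 4) : bW k ^ 3 = 1 := cube (show (k : ℕ) < 6 by omega)

theorem rW_cube : rW ^ 3 = 1 := cube (k := 4) (by norm_num)

theorem sW_cube : sW ^ 3 = 1 := cube (k := 5) (by norm_num)

/-- The realisation of the model. -/
noncomputable def real : SplitModel.Real cocData WGrp where
  b := bW
  r := rW
  s := sW
  hb := bW_cube
  hbb := bb_comm
  hr := rW_cube
  hs := sW_cube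
  hrs := rs_comm
  hconj_r k := by
    have h := eq_real (u := [rl, bl k]) (v := vWord (colOf 3 k) ++ [rl]) (by
      unfold realEqs
      exact List.mem_append_right _ (List.mem_append_right _ (List.mem_append_right _
        (List.mem_flatMap.2 ⟨k, List.mem_range.2 k.2, List.mem_cons_self⟩))))
    rw [show colOf 3 k = [((matTable.getD 3 []).getD 0 []).getD k 0,
        ((matTable.getD 3 []).getD 1 []).getD k 0, ((matTable.getD 3 []).getD 2 []).getD k 0,
        ((matTable.getD 3 []).getD 3 []).getD k 0] by simp [colOf, List.range_succ],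
      wp_append, wp_vWord, wp_cons, wp_cons, wp_cons, wp_nil, mul_one, mul_one] at h
    rw [mul_inv_eq_iff_eq_mul]
    simp only [cocData, zp_natCast (bW_cube _)]
    exact h
  hconj_s k := by
    have h := eq_real (u := [sl, bl k]) (v := vWord (colOf 1 k) ++ [sl]) (by
      unfold realEqs
      exact List.mem_append_right _ (List.mem_append_right _ (List.mem_append_right _
        (List.mem_flatMap.2 ⟨k, List.mem_range.2 k.2, List.mem_cons_of_mem _ List.mem_cons_self⟩))))
    rw [show colOf 1 k = [((matTable.getD 1 []).getD 0 []).getD k 0,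
        ((matTable.getD 1 []).getD 1 []).getD k 0, ((matTable.getD 1 []).getD 2 []).getD k 0,
        ((matTable.getD 1 []).getD 3 []).getD k 0] by simp [colOf, List.range_succ],
      wp_append, wp_vWord, wp_cons, wp_cons, wp_cons, wp_nil, mul_one, mul_one] at h
    rw [mul_inv_eq_iff_eq_mul]
    simp only [cocData, zp_natCast (bW_cube _)]
    exact h

/-- The Sylow 3-subgroup. -/
noncomputable def sylThree : Subgroup WGrp := Subgroup.closure (Set.range bW ∪ {rW, sW})

theorem sylThree_spec : sylThree = real.sub coc_valid ∧ Nat.card sylThree = 729 ∧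
    Function.Injective real.psi := by
  have hle : sylThree ≤ real.sub coc_valid := (Subgroup.closure_le _).2 fun x hx => by
    rcases hx with ⟨k, rfl⟩ | hx | hx
    · exact real.mem_b coc_valid k
    · rw [hx]; exact real.mem_r coc_valid
    · rw [Set.mem_singleton_iff.1 hx]; exact real.mem_s coc_valid
  have hge : 729 ≤ Nat.card sylThree := by
    rw [← three_bound]
    refine PermWord.card_closure_ge two_pow_nine slp_ok three_slp three_low three_code fun r hr => ?_
    obtain ⟨k, hk, rfl⟩ := List.getElem_of_mem hr
    have hk6 : k < 6 := lt_of_lt_of_le hk (by unfold threeLetters; decide)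
    have e : threeLetters[k] = threeLetters.getD k 0 := (List.getD_eq_getElem _ _ hk).symm
    show we threeLetters[k] ∈ _
    rw [e]
    by_cases h4 : k < 4
    · exact Or.inl ⟨⟨k, h4⟩, rfl⟩
    · rcases (by omega : k = 4 ∨ k = 5) with rfl | rfl
      · exact Or.inr (Or.inl rfl)
      · exact Or.inr (Or.inr rfl)
  obtain ⟨hc, hinj⟩ := real.card_sub coc_valid (hge.trans (Nat.card_mono (Set.toFinite _) hle))
  have heq := Subgroup.eq_of_le_of_card_ge hle (hc.trans_le hge)
  exact ⟨heq, heq ▸ hc, hinj⟩

end Cfsg.Agent.H95.McL
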