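import Cfsg.Agent.H95.McL.CheckCocycle
import Cfsg.Agent.H95.McL.Three

/-!
The cosets of the Sylow 3-subgroup of McL in the stabiliser of two points, and the test for
membership by the action on blocks.
-/

set_option autoImplicit false
set_option maxRecDepth 8000

namespace Cfsg.Agent.H95.McL

open Cfsg Cfsg.Agent.Compute Cfsg.Agent.H95 Cfsg.Agent.H94.M22

theorem low_cons (P : List ((ℕ × ℕ) × ℕ × ℕ)) (s : PermLower.Step) (t : List PermLower.Step)
    (fixed : List ℕ) : PermLower.lowOK 9 275 P (s :: t) fixed =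
      (PermLower.stepOK 9 275 P fixed s && PermLower.lowOK 9 275 P t (s.base :: fixed)) := rfl

attribute [local irreducible] PermLower.lowOK PermIso.slpOK mclSlp mclSteps threeSlp threeLetters
  repLetters moveLetters pairLetters blockOf blockPts blockTable fixedData fixPairs fixPts permDen getP

theorem applyWord_cons (r : ℕ) (u : List ℕ) (i : ℕ) :
    applyWord (r :: u) i = getP 9 (PermIso.operand mclSlp r) (applyWord u i) := rfl

theorem apply_spec : ∀ (u : List ℕ), (∀ r ∈ u, r < 2 * mclSlp.length) → ∀ i : Fin 275,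
    ((wp u : Equiv.Perm (Fin 275)) i : ℕ) = applyWord u i := by
  intro u
  induction u with
  | nil => intro _ i; simp [wp, applyWord]
  | cons r t ih =>
    intro hu i
    have hr := hu r List.mem_cons_self
    obtain ⟨ok, e, -⟩ := PermWord.operand_spec two_pow_nine slp_ok hr
    rw [wp_cons, Subgroup.coe_mul, Equiv.Perm.mul_apply, PermWord.el_val two_pow_nine slp_ok hr, ← e,
      permDen_apply ok, ih (fun x hx => hu x (List.mem_cons_of_mem _ hx)) i, applyWord_cons]

theorem apply_we {r : ℕ} (hr : r < 2 * mclSlp.length) (i : Fin 275) :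
    ((we r : Equiv.Perm (Fin 275)) i : ℕ) = applyWord [r] i := by
  rw [← apply_spec [r] (by simpa using hr) i, wp_cons, wp_nil, mul_one]

/-- The permutation of the blocks induced by an element is in the table. -/
def OnBlocks (g : WGrp) : Prop :=
  ∃ row ∈ blockTable, ∀ p : Fin 275, blk ((g : Equiv.Perm (Fin 275)) p) = row.getD (blk p) 0

theorem table_facts : (∃ row ∈ blockTable, ∀ i < 11, row.getD i 0 = i) ∧
    (∀ a ∈ blockTable, ∀ b ∈ blockTable, ∃ c ∈ blockTable,
      ∀ i < 11, c.getD i 0 = a.getD (b.getD i 0) 0) ∧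
    (∀ p < 275, blk p < 11) ∧ ∀ c ∈ blockPts, c < 275 := by
  have h := table_ok
  simp only [tableOK, Bool.and_eq_true, List.any_eq_true, List.all_eq_true, List.mem_range,
    Nat.beq_eq, allN_iff] at h
  exact ⟨h.1.1.1, h.1.1.2, fun p hp => Nat.le_of_ble_eq_true (h.1.2 p hp),
    fun c hc => Nat.le_of_ble_eq_true (h.2 c hc)⟩

theorem onBlocks_one : OnBlocks 1 := by
  obtain ⟨⟨row, hrow, he⟩, -, hlt, -⟩ := table_facts
  exact ⟨row, hrow, fun p => by
    rw [he _ (hlt p p.2), OneMemClass.coe_one, Equiv.Perm.one_apply]⟩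

theorem onBlocks_mul {g h : WGrp} (hg : OnBlocks g) (hh : OnBlocks h) : OnBlocks (g * h) := by
  obtain ⟨-, hc, hlt, -⟩ := table_facts
  obtain ⟨a, ha, hga⟩ := hg
  obtain ⟨b, hb, hhb⟩ := hh
  obtain ⟨c, hcm, he⟩ := hc a ha b hb
  exact ⟨c, hcm, fun p => by
    rw [Subgroup.coe_mul, Equiv.Perm.mul_apply, hga, hhb, he _ (hlt p p.2)]⟩

theorem three_lt {k : ℕ} (hk : k < 6) : threeLetters.getD k 0 < 2 * mclSlp.length := by
  have h := (allN_iff _ _).1 three_code k hk
  simp only [Bool.and_eq_true] at h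
  have hl : k < threeLetters.length := Nat.le_of_ble_eq_true h.1.1
  rw [List.getD_eq_getElem _ _ hl, ← nth_eq_getElem 0 _ k hl]
  exact Nat.le_of_ble_eq_true h.1.2

theorem gen_cases {x : WGrp} (hx : x ∈ Set.range bW ∪ {rW, sW}) :
    ∃ k < 6, x = we (threeLetters.getD k 0) := by
  rcases hx with ⟨k, rfl⟩ | hx | hx
  · exact ⟨k, by omega, rfl⟩
  · exact ⟨4, by norm_num, hx⟩
  · exact ⟨5, by norm_num, hx⟩

theorem onBlocks_mem {g : WGrp} (hg : g ∈ sylThree) : OnBlocks g := by
  have hg' : g ∈ Submonoid.closure (Set.range bW ∪ {rW, sW}) := by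
    rw [← Subgroup.closure_toSubmonoid_of_finite]; exact hg
  clear hg
  induction hg' using Submonoid.closure_induction with
  | mem x hx =>
    obtain ⟨k, hk, rfl⟩ := gen_cases hx
    have h := gens_ok
    simp only [gensOK, List.all_eq_true, List.mem_range, List.any_eq_true, Nat.beq_eq, allN_iff] at h
    obtain ⟨row, hrow, he⟩ := h k hk
    exact ⟨row, hrow, fun p => by rw [apply_we (three_lt hk) p]; exact he p p.2⟩
  | one => exact onBlocks_one
  | mul x y _ _ ihx ihy => exact onBlocks_mul ihx ihy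

theorem not_mem_of_test {u : List ℕ} (hu : ∀ r ∈ u, r < 2 * mclSlp.length) (h : inQ u = false) :
    wp u ∉ sylThree := by
  intro hm
  obtain ⟨row, hrow, he⟩ := onBlocks_mem hm
  refine Bool.eq_false_iff.1 h ?_
  simp only [inQ, List.any_eq_true, List.all_eq_true, Nat.beq_eq]
  refine ⟨row, hrow, fun c hc => ?_⟩
  rw [← he ⟨c, table_facts.2.2.2 c hc⟩, apply_spec u hu]

/-- The pointwise stabiliser of the two base points. -/
noncomputable def stabPair : Subgroup WGrp :=
  (PermLower.fixing 275 [6, 0]).subgroupOf WGrp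

theorem mem_stabPair {g : WGrp} : g ∈ stabPair ↔
    (g : Equiv.Perm (Fin 275)) 0 = 0 ∧ (g : Equiv.Perm (Fin 275)) 6 = 6 := by
  constructor
  · intro h
    exact ⟨h 0 (by simp), h 6 (by simp)⟩
  · intro h p hp
    rcases List.mem_cons.1 hp with e | e
    · rw [show p = 6 from Fin.ext e]; exact h.2
    · rw [show p = 0 from Fin.ext (List.mem_singleton.1 e)]; exact h.1

theorem card_stabPair : Nat.card stabPair ≤ 29160 := by
  have hl := low_ok
  have hs := steps_ok
  unfold stepsOK at hs
  rcases hm : mclSteps with _ | ⟨s₀, _ | ⟨s₁, t⟩⟩ <;> rw [hm] at hs hl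
  · cases hs
  · cases hs
  simp only [Bool.and_eq_true, Nat.beq_eq] at hs
  obtain ⟨⟨hprod, hb0⟩, hb1⟩ := hs
  rw [low_cons, low_cons, Bool.and_eq_true, Bool.and_eq_true] at hl
  have hl' := hl
  have e0 := PermLower.step_bound (m := 5) two_pow_nine slp_ok hl'.1
  have e1 := PermLower.step_bound (m := 5) two_pow_nine slp_ok hl'.2.1
  rw [hb0, hb1] at e1
  rw [hb0] at e0
  set Z : Subgroup (Equiv.Perm (Fin 275)) :=
    PermLower.genGrp 9 275 5 mclSlp ⊓ PermLower.fixing 275 [6, 0] with hZ
  have hle : Nat.card stabPair ≤ Nat.card Z :=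
    Nat.card_le_card_of_injective
      (fun g : stabPair => (⟨g.1.1, g.1.2, g.2⟩ : Z))
      fun a b h => Subtype.ext (Subtype.ext (congrArg (fun z : Z => (z : Equiv.Perm (Fin 275))) h))
  have htop : Nat.card (PermLower.genGrp 9 275 5 mclSlp ⊓ PermLower.fixing 275 [] :
      Subgroup (Equiv.Perm (Fin 275))) ≤ 898128000 := by
    rw [← card_wGrp]
    exact Nat.card_mono (Set.toFinite _) inf_le_left
  have h30 : 30800 * Nat.card Z ≤ 898128000 := by
    rw [← hprod, show Nat.mul s₀.orb.length s₁.orb.length = s₀.orb.length * s₁.orb.length from rfl,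
      mul_assoc]
    exact ((Nat.mul_le_mul_left _ e1).trans e0).trans htop
  omega

theorem rep_facts {k : ℕ} (hk : k < 40) :
    rpl k < 2 * mclSlp.length ∧ rpl k % 2 = 0 ∧ we (rpl k) ∈ stabPair := by
  have h := stab_ok
  simp only [stabOK, Bool.and_eq_true, List.all_eq_true, Nat.beq_eq] at h
  have hmem : rpl k ∈ repLetters ++ threeLetters := by
    refine List.mem_append_left _ ?_
    rw [rpl, List.getD_eq_getElem _ _ (h.1.symm ▸ hk)]
    exact List.getElem_mem _
  obtain ⟨⟨hlt, h0⟩, h6⟩ := h.2 _ hmem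
  have hlt' : rpl k < 2 * mclSlp.length := Nat.le_of_ble_eq_true hlt
  have heven : rpl k % 2 = 0 := by
    by_cases hk0 : k = 0
    · subst hk0; exact rep_zero_even
    · have hr := reps_ok
      simp only [repsOK, List.all_eq_true, List.mem_range, Bool.and_eq_true, Nat.beq_eq] at hr
      exact (hr k hk 0 (Nat.pos_of_ne_zero hk0)).2
  refine ⟨hlt', heven, mem_stabPair.2 ⟨Fin.ext ?_, Fin.ext ?_⟩⟩
  · rw [apply_we hlt' 0]; exact h0
  · rw [apply_we hlt' 6]; exact h6

theorem sylThree_le : sylThree ≤ stabPair := by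
  refine (Subgroup.closure_le _).2 fun x hx => ?_
  obtain ⟨k, hk, rfl⟩ := gen_cases hx
  have h := stab_ok
  simp only [stabOK, Bool.and_eq_true, List.all_eq_true, Nat.beq_eq] at h
  have hl : k < threeLetters.length := by
    have h := (allN_iff _ _).1 three_code k hk
    simp only [Bool.and_eq_true] at h
    exact Nat.le_of_ble_eq_true h.1.1
  have hmem : threeLetters.getD k 0 ∈ repLetters ++ threeLetters := by
    rw [List.getD_eq_getElem _ _ hl]
    exact List.mem_append_right _ (List.getElem_mem _)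
  refine mem_stabPair.2 ⟨Fin.ext ?_, Fin.ext ?_⟩
  · rw [apply_we (three_lt hk) 0]; exact (h.2 _ hmem).1.2
  · rw [apply_we (three_lt hk) 6]; exact (h.2 _ hmem).2

theorem reps_distinct {i j : ℕ} (hi : i < 40) (hj : j < 40)
    (h : (we (rpl i))⁻¹ * we (rpl j) ∈ sylThree) : i = j := by
  have key : ∀ a b, b < a → a < 40 → (we (rpl a))⁻¹ * we (rpl b) ∉ sylThree := by
    intro a b hba ha
    have hr := reps_ok
    simp only [repsOK, List.all_eq_true, List.mem_range, Bool.and_eq_true, Nat.beq_eq,
      Bool.not_eq_true'] at hr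
    obtain ⟨hla, hea, -⟩ := rep_facts ha
    obtain ⟨hlb, -, -⟩ := rep_facts (hba.trans ha)
    have := not_mem_of_test (u := [PermWord.flipL (rpl a), rpl b]) (by
      intro r hr'
      simp only [List.mem_cons, List.not_mem_nil, or_false] at hr'
      rcases hr' with e | e <;> rw [e]
      · rw [PermWord.flipL, if_pos hea]; omega
      · exact hlb) (hr a ha b hba).1
    simpa [wp, we_flip hea] using this
  rcases lt_trichotomy i j with hij | hij | hij
  · refine absurd ?_ (key j i hij hj)
    simpa using inv_mem h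
  · exact hij
  · exact absurd h (key i j hij hi)

/-- The representatives form a transversal in the stabiliser. -/
theorem isTrans_stab : IsTrans sylThree stabPair fun k : Fin 40 => we (rpl k) := by
  have hle := sylThree_le
  have hmem : ∀ k : Fin 40, we (rpl k) ∈ stabPair := fun k => (rep_facts k.2).2.2
  have hinj : ∀ i j : Fin 40, (we (rpl i))⁻¹ * we (rpl j) ∈ sylThree → i = j := fun i j h =>
    Fin.ext (reps_distinct i.2 j.2 h)
  refine IsTrans.of_card hle hmem hinj (le_antisymm ?_ ?_)
  · rw [Nat.card_fin, sylThree_spec.2.1]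
    exact card_stabPair
  · rw [← Nat.card_prod]
    exact Nat.card_le_card_of_injective _ (bij_of_mem hle hmem hinj)

end Cfsg.Agent.H95.McL
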