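import Cfsg.Agent.H95.McL.Cosets
import Cfsg.Agent.H94.M22.Combine

/-!
A stem extension of McL with kernel of order three, by transfer from the Sylow 3-subgroup.
-/

set_option autoImplicit false
set_option maxRecDepth 8000

namespace Cfsg.Agent.H95.McL

open Cfsg Cfsg.Agent.Compute Cfsg.Agent.H95 Cfsg.Agent.H94.M22

attribute [local irreducible] PermLower.lowOK PermIso.slpOK mclSlp mclSteps threeSlp threeLetters
  repLetters moveLetters pairLetters blockOf blockPts blockTable fixedData fixPairs fixPts matTable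
  formTable fixedEqs permDen getP

/-- The first element of the pair. -/
noncomputable def uW : WGrp := we ul

/-- The second element of the pair. -/
noncomputable def vW : WGrp := we wl

/-- The representative of a listed coset. -/
noncomputable def gOf (key : ℕ × ℕ) : WGrp := we (mvl key.1) * we (rpl key.2)

theorem eq_fixed {u v : List ℕ} (h : (u, v) ∈ fixedEqs) : wp u = wp v :=
  PermWord.eq_of_eqsOK two_pow_nine slp_ok fixed_eqs h

theorem pair_facts : uW * uW * uW = 1 ∧ vW * vW * vW = 1 ∧ uW * vW = vW * uW := by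
  refine ⟨?_, ?_, ?_⟩
  · have h := eq_fixed (u := [ul, ul, ul]) (v := []) (by unfold fixedEqs; simp)
    simpa [wp, uW, mul_assoc] using h
  · have h := eq_fixed (u := [wl, wl, wl]) (v := []) (by unfold fixedEqs; simp)
    simpa [wp, vW, mul_assoc] using h
  · have h := eq_fixed (u := [ul, wl]) (v := [wl, ul]) (by unfold fixedEqs; simp)
    simpa [wp, uW, vW] using h

theorem psi_elOfList (a b c d i j : ℕ) :
    wp (subWord [a, b, c, d, i, j]) = real.psi (elOfList [a, b, c, d, i, j]) := by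
  rw [show subWord [a, b, c, d, i, j] = vWord [a, b, c, d] ++ powWord [rl, sl] [i, j] from rfl,
    wp_append, wp_vWord, wp_rsWord]
  have hb : ∀ (k : Fin 4) (n : ℕ), SplitModel.zp (bW k) (n : ZMod 3) = bW k ^ n := fun k n =>
    zp_natCast (bW_cube k) n
  simp [SplitModel.Real.psi, SplitModel.Real.fV, SplitModel.Real.fQ, real, elOfList,
    zp_natCast rW_cube, zp_natCast sW_cube, hb]

theorem points_facts :
    (∀ p : Fin 275, (uW : Equiv.Perm (Fin 275)) p = p → (vW : Equiv.Perm (Fin 275)) p = p →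
      p.1 ∈ fixPts) ∧
    (∀ q ∈ fixPts, ∀ s ∈ fixPts, q ≠ s → ∃ p < 20, fixPairs.getD p (0, 0) = (q, s)) ∧
    fixPairs.Nodup ∧ fixPairs.length = 20 ∧
    (∀ p < 20, mvl p < 2 * mclSlp.length ∧ mvl p % 2 = 0 ∧
      ((we (mvl p) : Equiv.Perm (Fin 275)) 0 : ℕ) = (fixPairs.getD p (0, 0)).1 ∧
      ((we (mvl p) : Equiv.Perm (Fin 275)) 6 : ℕ) = (fixPairs.getD p (0, 0)).2) ∧
    ul < 2 * mclSlp.length ∧ wl < 2 * mclSlp.length := by
  have h := points_ok
  simp only [pointsOK, Bool.and_eq_true, List.all_eq_true, List.mem_range, allN_iff,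
    Bool.or_eq_true, List.contains_iff_mem, decide_eq_true_eq, Nat.beq_eq] at h
  obtain ⟨⟨⟨⟨⟨hfix, hpairs⟩, hnd⟩, hlen⟩, hmv⟩, hlt⟩ := h
  have hpl : pairLetters.length = 2 := by unfold pairLetters; rfl
  have hml : moveLetters.length = 20 := by unfold moveLetters; rfl
  have hu : ul < 2 * mclSlp.length := Nat.le_of_ble_eq_true (hlt _ (List.mem_append_left _ (by
    rw [ul, List.getD_eq_getElem _ _ (by rw [hpl]; norm_num)]; exact List.getElem_mem _)))
  have hw : wl < 2 * mclSlp.length := Nat.le_of_ble_eq_true (hlt _ (List.mem_append_left _ (by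
    rw [wl, List.getD_eq_getElem _ _ (by rw [hpl]; norm_num)]; exact List.getElem_mem _)))
  have hm : ∀ p < 20, mvl p < 2 * mclSlp.length := fun p hp =>
    Nat.le_of_ble_eq_true (hlt _ (List.mem_append_right _ (by
      rw [mvl, List.getD_eq_getElem _ _ (by omega)]; exact List.getElem_mem _)))
  refine ⟨fun p h1 h2 => ?_, fun q hq s hs hne => ?_, hnd, hlen, fun p hp => ?_, hu, hw⟩
  · rcases hfix p p.2 with e | e
    · have e1 : applyWord [ul] p = p := by
        rw [← apply_we hu p]; exact congrArg Fin.val h1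
      have e2 : applyWord [wl] p = p := by
        rw [← apply_we hw p]; exact congrArg Fin.val h2
      rw [e1, e2] at e
      simp at e
    · exact e
  · rcases hpairs q hq s hs with e | e
    · exact absurd e hne
    · obtain ⟨p, hp, he⟩ := List.getElem_of_mem e
      exact ⟨p, hlen ▸ hp, by rw [List.getD_eq_getElem _ _ hp, he]⟩
  · obtain ⟨⟨h0, h1⟩, h2⟩ := hmv p hp
    refine ⟨hm p hp, h0, ?_, ?_⟩
    · rw [apply_we (hm p hp) 0]; exact h1
    · rw [apply_we (hm p hp) 6]; exact h2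

/-- The listed cosets. -/
theorem key_lt {key : ℕ × ℕ} (h : key ∈ fixedData.map Prod.fst) : key.1 < 20 ∧ key.2 < 40 := by
  obtain ⟨d, hd, rfl⟩ := List.mem_map.1 h
  have := List.all_eq_true.1 fixed_shape.2 d hd
  simp only [Bool.and_eq_true, decide_eq_true_eq] at this
  exact this

/-- The two conjugates at a listed coset. -/
theorem conj_eq {d : (ℕ × ℕ) × List ℕ × List ℕ} (hd : d ∈ fixedData) :
    (gOf d.1)⁻¹ * uW * gOf d.1 = real.psi (elOfList d.2.1) ∧
      (gOf d.1)⁻¹ * vW * gOf d.1 = real.psi (elOfList d.2.2) := by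
  have hlen := List.all_eq_true.1 fixed_data_lengths d hd
  simp only [Bool.and_eq_true, decide_eq_true_eq] at hlen
  have key : ∀ (x : ℕ) (e : List ℕ), e.length = 6 →
      ([x, mvl d.1.1, rpl d.1.2], [mvl d.1.1, rpl d.1.2] ++ subWord e) ∈ fixedEqs →
      (gOf d.1)⁻¹ * we x * gOf d.1 = real.psi (elOfList e) := by
    intro x e he hm
    obtain ⟨a, b, c, f, i, j, rfl⟩ : ∃ a b c f i j, e = [a, b, c, f, i, j] := by
      match e, he with
      | [a, b, c, f, i, j], _ => exact ⟨a, b, c, f, i, j, rfl⟩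
    have h := eq_fixed hm
    simp only [wp_append, psi_elOfList, wp_cons, wp_nil, mul_one] at h
    rw [gOf, mul_assoc, h, inv_mul_cancel_left]
  constructor
  · refine key ul _ hlen.1 ?_
    unfold fixedEqs
    exact List.mem_append_right _ (List.mem_flatMap.2 ⟨d, hd, List.mem_cons_self⟩)
  · refine key wl _ hlen.2 ?_
    unfold fixedEqs
    exact List.mem_append_right _ (List.mem_flatMap.2 ⟨d, hd,
      List.mem_cons_of_mem _ List.mem_cons_self⟩)

theorem gOf_injective {k₁ k₂ : ℕ × ℕ} (h₁ : k₁.1 < 20 ∧ k₁.2 < 40) (h₂ : k₂.1 < 20 ∧ k₂.2 < 40)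
    (h : (gOf k₁)⁻¹ * gOf k₂ ∈ sylThree) : k₁ = k₂ := by
  obtain ⟨-, -, hnd, hlen, hmv, -, -⟩ := points_facts
  have hr₁ := (rep_facts h₁.2).2.2
  have hr₂ := (rep_facts h₂.2).2.2
  have hst : (we (mvl k₁.1))⁻¹ * we (mvl k₂.1) ∈ stabPair := by
    have hm : (gOf k₁)⁻¹ * gOf k₂ ∈ stabPair := sylThree_le h
    have : (we (mvl k₁.1))⁻¹ * we (mvl k₂.1) =
        we (rpl k₁.2) * ((gOf k₁)⁻¹ * gOf k₂) * (we (rpl k₂.2))⁻¹ := by
      simp only [gOf]; group
    rw [this]
    exact mul_mem (mul_mem hr₁ hm) (inv_mem hr₂)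
  obtain ⟨e0, e6⟩ := mem_stabPair.1 hst
  have hp : k₁.1 = k₂.1 := by
    obtain ⟨-, -, a1, a2⟩ := hmv _ h₁.1
    obtain ⟨-, -, b1, b2⟩ := hmv _ h₂.1
    rw [Subgroup.coe_mul, Equiv.Perm.mul_apply, Subgroup.coe_inv, Equiv.Perm.inv_eq_iff_eq] at e0 e6
    rw [e0] at b1
    rw [e6] at b2
    have hpe : fixPairs.getD k₁.1 (0, 0) = fixPairs.getD k₂.1 (0, 0) :=
      Prod.ext (a1.symm.trans b1) (a2.symm.trans b2)
    rw [List.getD_eq_getElem _ _ (hlen ▸ h₁.1), List.getD_eq_getElem _ _ (hlen ▸ h₂.1)] at hpe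
    exact (List.Nodup.getElem_inj_iff hnd).1 hpe
  refine Prod.ext hp (reps_distinct h₁.2 h₂.2 ?_)
  have : (we (rpl k₁.2))⁻¹ * we (rpl k₂.2) = (gOf k₁)⁻¹ * gOf k₂ := by
    simp only [gOf, hp]; group
  rwa [this]

/-- Every coset fixed by both elements is listed. -/
theorem exists_key {g : WGrp} (hu : g⁻¹ * uW * g ∈ sylThree) (hv : g⁻¹ * vW * g ∈ sylThree) :
    ∃ key ∈ fixedData.map Prod.fst, (gOf key)⁻¹ * g ∈ sylThree := by
  obtain ⟨hfix, hpairs, -, -, hmv, hul, hwl⟩ := points_facts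
  have hfx : ∀ (x : WGrp) (p : Fin 275), g⁻¹ * x * g ∈ stabPair → p = 0 ∨ p = 6 →
      (x : Equiv.Perm (Fin 275)) ((g : Equiv.Perm (Fin 275)) p) = (g : Equiv.Perm (Fin 275)) p := by
    intro x p hx hp
    obtain ⟨e0, e6⟩ := mem_stabPair.1 hx
    have e : ((g⁻¹ * x * g : WGrp) : Equiv.Perm (Fin 275)) p = p := by
      rcases hp with rfl | rfl
      exacts [e0, e6]
    rw [Subgroup.coe_mul, Subgroup.coe_mul, Equiv.Perm.mul_apply, Equiv.Perm.mul_apply,
      Subgroup.coe_inv, Equiv.Perm.inv_eq_iff_eq] at e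
    exact e
  set q := (g : Equiv.Perm (Fin 275)) 0 with hq
  set s := (g : Equiv.Perm (Fin 275)) 6 with hs
  have hus := sylThree_le hu
  have hvs := sylThree_le hv
  have hqF := hfix q (hfx _ 0 hus (Or.inl rfl)) (hfx _ 0 hvs (Or.inl rfl))
  have hsF := hfix s (hfx _ 6 hus (Or.inr rfl)) (hfx _ 6 hvs (Or.inr rfl))
  have hne : q.1 ≠ s.1 := fun e => by
    have h06 : (0 : Fin 275) = 6 := (g : Equiv.Perm (Fin 275)).injective (Fin.ext e)
    revert h06
    decide
  obtain ⟨p, hp, hpe⟩ := hpairs _ hqF _ hsF hne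
  obtain ⟨hml, hme, hm0, hm6⟩ := hmv p hp
  rw [hpe] at hm0 hm6
  have hmg : (we (mvl p))⁻¹ * g ∈ stabPair := by
    refine mem_stabPair.2 ⟨?_, ?_⟩ <;>
      rw [Subgroup.coe_mul, Equiv.Perm.mul_apply, Subgroup.coe_inv, Equiv.Perm.inv_eq_iff_eq]
    · exact (Fin.ext hm0).symm
    · exact (Fin.ext hm6).symm
  obtain ⟨k, hk⟩ := isTrans_stab.ex _ hmg
  have hgk : (gOf (p, k.1))⁻¹ * g ∈ sylThree := by
    rwa [gOf, mul_inv_rev, mul_assoc]
  refine ⟨(p, k.1), ?_, hgk⟩
  by_contra hmem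
  have h := nonFixed_ok
  simp only [nonFixedOK, List.all_eq_true, List.mem_range, Bool.or_eq_true, List.contains_iff_mem,
    Bool.not_eq_true'] at h
  obtain ⟨hrl, hre, -⟩ := rep_facts k.2
  have hconj : ∀ x : WGrp, g⁻¹ * x * g ∈ sylThree →
      (gOf (p, k.1))⁻¹ * x * gOf (p, k.1) ∈ sylThree := by
    intro x hx
    have : (gOf (p, k.1))⁻¹ * x * gOf (p, k.1) =
        (gOf (p, k.1))⁻¹ * g * (g⁻¹ * x * g) * ((gOf (p, k.1))⁻¹ * g)⁻¹ := by group
    rw [this]
    exact mul_mem (mul_mem hgk hx) (inv_mem hgk)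
  have hwd : ∀ x : ℕ, wp [PermWord.flipL (rpl k), PermWord.flipL (mvl p), x, mvl p, rpl k] =
      (gOf (p, k.1))⁻¹ * we x * gOf (p, k.1) := fun x => by
    simp [wp, gOf, we_flip hre, we_flip hme, mul_assoc]
  have hb : ∀ x : ℕ, x < 2 * mclSlp.length →
      ∀ r ∈ [PermWord.flipL (rpl k), PermWord.flipL (mvl p), x, mvl p, rpl k],
        r < 2 * mclSlp.length := by
    intro x hx r hr
    simp only [List.mem_cons, List.not_mem_nil, or_false] at hr
    rcases hr with e | e | e | e | e <;> rw [e]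
    · rw [PermWord.flipL, if_pos hre]; omega
    · rw [PermWord.flipL, if_pos hme]; omega
    all_goals assumption
  rcases h p hp k k.2 with (e | e) | e
  · exact hmem e
  · exact not_mem_of_test (hb ul hul) e (by rw [hwd]; exact hconj _ hu)
  · exact not_mem_of_test (hb wl hwl) e (by rw [hwd]; exact hconj _ hv)

/-- The cosets of the Sylow 3-subgroup. -/
abbrev Coset : Type := WGrp ⧸ sylThree

/-- A transversal. -/
noncomputable def outT (i : Coset) : WGrp := Quotient.out i

theorem isTrans_out : IsTrans sylThree ⊤ outT where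
  le := le_top
  mem _ := Subgroup.mem_top _
  inj i j h := by
    have := QuotientGroup.eq.2 h
    rwa [outT, outT, QuotientGroup.out_eq', QuotientGroup.out_eq'] at this
  ex g _ := ⟨(g : Coset), QuotientGroup.eq.1 (QuotientGroup.out_eq' _)⟩

noncomputable instance : Fintype Coset := Fintype.ofFinite _

/-- The transferred cocycle. -/
noncomputable def corThree : WGrp → WGrp → ZMod 3 := cor sylThree outT real.coc

theorem isCoc_three : IsCoc sylThree real.coc := by
  rw [sylThree_spec.1]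
  exact real.isCoc coc_valid sylThree_spec.2.2

theorem corThree_pairing : corThree uW vW - corThree vW uW = 2 := by
  classical
  obtain ⟨hu3, hv3, huv⟩ := pair_facts
  have hT := isTrans_out
  rw [corThree, FixedPair.cor_pairing hT isCoc_three hu3 hv3 huv, ← fixed_sum, fixedSum]
  set f : ℕ × ℕ → Coset := fun key => cidx sylThree outT (gOf key) with hf
  set S := (fixedData.map Prod.fst).toFinset with hS
  have hmemS : ∀ {key : ℕ × ℕ}, key ∈ S → key ∈ fixedData.map Prod.fst := fun h =>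
    List.mem_toFinset.1 h
  have hpsi : ∀ a, real.psi a ∈ sylThree := fun a => by
    rw [sylThree_spec.1]; exact real.psi_mem coc_valid a
  have hinj : Set.InjOn f S := by
    intro k₁ h₁ k₂ h₂ e
    refine gOf_injective (key_lt (hmemS h₁)) (key_lt (hmemS h₂)) ?_
    have e1 := cidx_spec hT (Subgroup.mem_top (gOf k₁))
    have e2 := cidx_spec hT (Subgroup.mem_top (gOf k₂))
    rw [← show cidx sylThree outT (gOf k₁) = cidx sylThree outT (gOf k₂) from e] at e2
    have : (gOf k₁)⁻¹ * gOf k₂ = ((outT (cidx sylThree outT (gOf k₁)))⁻¹ * gOf k₁)⁻¹ *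
        ((outT (cidx sylThree outT (gOf k₁)))⁻¹ * gOf k₂) := by group
    rw [this]
    exact mul_mem (inv_mem e1) e2
  have himg : Finset.univ.filter (fun i => FixedPair.act sylThree outT uW i = i ∧
      FixedPair.act sylThree outT vW i = i) = S.image f := by
    ext i
    simp only [Finset.mem_filter, Finset.mem_univ, true_and, Finset.mem_image]
    constructor
    · rintro ⟨h1, h2⟩
      obtain ⟨key, hkey, hk⟩ := exists_key (FixedPair.conj_mem_of_fixed hT h1)
        (FixedPair.conj_mem_of_fixed hT h2)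
      refine ⟨key, List.mem_toFinset.2 hkey, cidx_eq hT ?_⟩
      simpa using inv_mem hk
    · rintro ⟨key, hkey, rfl⟩
      obtain ⟨d, hd, rfl⟩ := List.mem_map.1 (hmemS hkey)
      obtain ⟨e1, e2⟩ := conj_eq hd
      exact (FixedPair.fixed_of_rep hT isCoc_three huv (e1 ▸ hpsi _) (e2 ▸ hpsi _)).1
  rw [himg, Finset.sum_image hinj, hS, List.sum_toFinset _ fixed_shape.1, List.map_map]
  refine congrArg List.sum (List.map_congr_left fun d hd => ?_)
  obtain ⟨e1, e2⟩ := conj_eq hd
  rw [Function.comp_apply,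
    (FixedPair.fixed_of_rep hT isCoc_three huv (e1 ▸ hpsi _) (e2 ▸ hpsi _)).2, e1, e2,
    real.delta_psi sylThree_spec.2.2]

/-- The extension with kernel of order three. -/
theorem exists_stem_three :
    ∃ (Γ : Type) (_ : Group Γ) (_ : Finite Γ) (σ : Γ →* WGrp),
      IsStemExtension σ ∧ Nonempty (σ.ker ≃* Multiplicative (ZMod 3)) := by
  obtain ⟨Γ, i, j, σ, hσ, ⟨e⟩⟩ := exists_stem_of_cocycle (⊤ : Subgroup WGrp)
    (isCoc_cor isTrans_out isCoc_three)
    (x := ⟨uW, Subgroup.mem_top _⟩) (y := ⟨vW, Subgroup.mem_top _⟩) (Subtype.ext pair_facts.2.2)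
    (fun a => ⟨2 * a.val, by
      rw [show cor sylThree outT real.coc uW vW - cor sylThree outT real.coc vW uW = 2 from
        corThree_pairing]
      revert a; decide⟩)
  have hk : (Subgroup.topEquiv.toMonoidHom.comp σ).ker = σ.ker := by ext z; simp
  refine ⟨Γ, i, j, Subgroup.topEquiv.toMonoidHom.comp σ, ?_,
    ⟨(MulEquiv.subgroupCongr hk).trans e⟩⟩
  exact ⟨Subgroup.topEquiv.surjective.comp hσ.1, hk ▸ hσ.2.1, hk ▸ hσ.2.2⟩

end Cfsg.Agent.H95.McL
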