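import Cfsg.Agent.H95.McL.Three
import Cfsg.Agent.H95.Transfer.KilledSplit
import Cfsg.Agent.H95.Transfer.ThreeBound

/-!
The 3-part of the multiplier of McL is generated by one commutator.
-/

set_option autoImplicit false
set_option maxRecDepth 8000

namespace Cfsg.Agent.H95.McL

open Cfsg Cfsg.Agent.Compute Cfsg.Agent.H95 Cfsg.Agent.Linear.Mult
open scoped commutatorElement

attribute [local irreducible] PermLower.lowOK PermIso.slpOK mclSlp mclSteps threeSlp imageSlp
  threeLetters imageLetters pairWit centWit pairExp relData upperEqs permDen getP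

theorem eq_upper {u v : List ℕ} (h : (u, v) ∈ upperEqs) : wp u = wp v :=
  PermWord.eq_of_eqsOK two_pow_nine slp_ok upper_eqs h

theorem bl_even (k : Fin 4) : bl k % 2 = 0 := three_even (show (k : ℕ) < 6 by omega)

theorem vWord_letters {r : ℕ} {es : List ℕ} (hr : r ∈ vWord es) : ∃ k : Fin 4, r = bl k := by
  unfold vWord powWord at hr
  obtain ⟨p, hp, hr⟩ := List.mem_flatMap.1 hr
  obtain ⟨-, rfl⟩ := List.mem_replicate.1 hr
  have h := (List.of_mem_zip hp).1
  simp only [List.mem_cons, List.not_mem_nil, or_false] at h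
  rcases h with h | h | h | h
  · exact ⟨0, h⟩
  · exact ⟨1, h⟩
  · exact ⟨2, h⟩
  · exact ⟨3, h⟩

theorem vWord_mem (es : List ℕ) : wp (vWord es) ∈ Subgroup.closure (Set.range bW) := by
  refine list_prod_mem fun x hx => ?_
  obtain ⟨r, hr, rfl⟩ := List.mem_map.1 hx
  obtain ⟨k, rfl⟩ := vWord_letters hr
  exact Subgroup.subset_closure ⟨k, rfl⟩

theorem rsWord_mem (es : List ℕ) : wp (powWord [rl, sl] es) ∈ Subgroup.closure {rW, sW} := by
  refine list_prod_mem fun x hx => ?_
  obtain ⟨r, hr, rfl⟩ := List.mem_map.1 hx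
  unfold powWord at hr
  obtain ⟨p, hp, hr⟩ := List.mem_flatMap.1 hr
  obtain ⟨-, rfl⟩ := List.mem_replicate.1 hr
  have h := (List.of_mem_zip hp).1
  simp only [List.mem_cons, List.not_mem_nil, or_false] at h
  rcases h with h | h <;> rw [h]
  · exact Subgroup.subset_closure (Or.inl rfl)
  · exact Subgroup.subset_closure (Or.inr rfl)

theorem wp_comWord {x : ℕ} (hx : x % 2 = 0) (es : List ℕ) :
    wp (comWord x (vWord es)) = ⁅we x, wp (vWord es)⁆ := by
  rw [comWord, wp_append, wp_cons, wp_cons, we_flip hx, wp_invWord fun r hr => by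
    obtain ⟨k, rfl⟩ := vWord_letters hr; exact bl_even k, commutatorElement_def, ← mul_assoc]

theorem rl_even : rl % 2 = 0 := three_even (k := 4) (by norm_num)

theorem sl_even : sl % 2 = 0 := three_even (k := 5) (by norm_num)

/-- A centralising element. -/
noncomputable def centW (j : ℕ) : WGrp := wp (centWord j)

/-- The three pairs. -/
noncomputable def pairW (i : Fin 3) : WGrp × WGrp :=
  (wp (vWord (pairOfExp i).1), wp (vWord (pairOfExp i).2))

theorem wp_tri (n : List ℕ) (f : ℕ → List ℕ) :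
    wp ((List.range 3).flatMap fun i => (List.replicate (n.getD i 0) (f i)).flatten) =
      KilledSplit.tri (fun i : Fin 3 => wp (f i)) (fun i : Fin 3 => n.getD i 0) := by
  rw [show List.range 3 = [0, 1, 2] from rfl, List.flatMap_cons, List.flatMap_cons, List.flatMap_cons,
    List.flatMap_nil, List.append_nil, wp_append, wp_append, wp_flatten_replicate,
    wp_flatten_replicate, wp_flatten_replicate, ← mul_assoc]
  rfl

/-- The image of a relation's first side. -/
theorem wp_relLeft (k : ℕ) : wp (relLeft k) =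
    KilledSplit.tri (fun i => (pairW i).1) (fun i : Fin 3 => (relOf k).1.getD i 0) *
      ⁅sW, wp (vWord (relOf k).2.1)⁆ *
      (centW 0 ^ (relOf k).2.2.getD 0 0 * centW 1 ^ (relOf k).2.2.getD 1 0) := by
  rw [relLeft, wp_append, wp_append, wp_append, wp_flatten_replicate, wp_flatten_replicate,
    wp_tri _ fun i => vWord (pairOfExp i).1, wp_comWord sl_even]
  rfl

/-- The image of a relation's second side. -/
theorem wp_relRight (k : ℕ) : wp (relRight k) =
    KilledSplit.tri (fun i => (pairW i).2) (fun i : Fin 3 => (relOf k).1.getD i 0) *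
      ⁅rW, wp (vWord (relOf k).2.1)⁆⁻¹ *
      (centW 2 ^ (relOf k).2.2.getD 2 0 * centW 3 ^ (relOf k).2.2.getD 3 0) := by
  rw [relRight, wp_append, wp_append, wp_append, wp_append, wp_append, wp_flatten_replicate,
    wp_flatten_replicate, wp_tri _ fun i => vWord (pairOfExp i).2, wp_cons, wp_cons, wp_nil, mul_one,
    we_flip rl_even, wp_invWord fun r hr => by
      obtain ⟨k, rfl⟩ := vWord_letters hr; exact bl_even k,
    commutatorElement_inv, commutatorElement_def]
  simp only [mul_assoc]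
  rfl

theorem mem_rel {k : ℕ} (hk : k < 4) {e : List ℕ × List ℕ}
    (he : e ∈ [([bl k], relLeft k), (([] : List ℕ), relRight k),
      (([] : List ℕ), relLeft (k + 4)), ([bl k], relRight (k + 4))]) : e ∈ upperEqs := by
  unfold upperEqs
  exact List.mem_append_right _ (List.mem_append_right _ (List.mem_append_right _
    (List.mem_flatMap.2 ⟨k, List.mem_range.2 hk, he⟩)))

theorem mem_cent {j : ℕ} (hj : j < 4) {e : List ℕ × List ℕ}
    (he : e ∈ [((if j < 2 then rl else sl) :: centWord j, centWord j ++ [if j < 2 then rl else sl]),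
      ([(centOf j).2.2.1, if j < 2 then rl else sl],
        powWord [rl, sl] (centOf j).2.2.2.1 ++ [(centOf j).2.2.1]),
      ((centOf j).2.2.1 :: centWord j,
        powWord [rl, sl] (centOf j).2.2.2.2 ++ [(centOf j).2.2.1])]) : e ∈ upperEqs := by
  unfold upperEqs
  exact List.mem_append_right _ (List.mem_append_left _
    (List.mem_flatMap.2 ⟨j, List.mem_range.2 hj, he⟩))

theorem mem_pair {p : ℕ × ℕ × ℕ × ℕ} (hp : p ∈ pairWit) {e : List ℕ × List ℕ}
    (he : e ∈ [
      ([p.2.2.1, bl p.1], [(PermWord.InvCert.target (bl p.1, bl p.2.1, p.2.2.1, p.2.2.2)).1, p.2.2.1]),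
      ([p.2.2.1, bl p.2.1],
        [(PermWord.InvCert.target (bl p.1, bl p.2.1, p.2.2.1, p.2.2.2)).2, p.2.2.1])]) :
    e ∈ upperEqs := by
  unfold upperEqs
  exact List.mem_append_left _ (List.mem_flatMap.2 ⟨p, hp, he⟩)

theorem image_eq (i : Fin 3) :
    we (imageLetters.getD i 0) = ⁅rW, (pairW i).1⁆ * ⁅sW, (pairW i).2⁆ := by
  have h := eq_upper (u := [imageLetters.getD i 0])
    (v := comWord rl (vWord (pairOfExp i).1) ++ comWord sl (vWord (pairOfExp i).2)) (by
    unfold upperEqs
    exact List.mem_append_right _ (List.mem_append_right _ (List.mem_append_left _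
      (List.mem_map.2 ⟨i, List.mem_range.2 i.2, rfl⟩))))
  rw [wp_cons, wp_nil, mul_one, wp_append, wp_comWord rl_even, wp_comWord sl_even] at h
  exact h

theorem killed_three {X : Type} [Group X] [Finite X] (E : LExt 3 X WGrp)
    (hcm : E.cm rW sW = 1) : E.Killed sylThree := by
  have hsh := three_shape
  simp only [pairsCover, Bool.and_eq_true, List.all_eq_true, List.any_eq_true, Bool.or_eq_true,
    beq_iff_eq, decide_eq_true_eq, List.mem_range] at hsh
  obtain ⟨⟨hcov, -⟩, hplt⟩ := hsh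
  have hpair : ∀ p ∈ pairWit, ∀ hi : p.1 < 4, ∀ hj : p.2.1 < 4,
      E.cm (bW ⟨p.1, hi⟩) (bW ⟨p.2.1, hj⟩) = 1 := by
    rintro ⟨j, i, g, f⟩ hp hj hi
    have m2 := eq_upper (mem_pair hp List.mem_cons_self)
    have m3 := eq_upper (mem_pair hp (List.mem_cons_of_mem _ List.mem_cons_self))
    simp only [wp_cons, wp_nil, mul_one] at m2 m3
    refine KilledInverted.cm_eq_one_of_conj E (by norm_num) (bb_comm _ _) (we g) ?_
    rw [mul_inv_eq_iff_eq_mul, mul_inv_eq_iff_eq_mul, mul_inv_eq_iff_eq_mul, mul_inv_eq_iff_eq_mul,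
      mul_inv_eq_iff_eq_mul, mul_inv_eq_iff_eq_mul, mul_inv_eq_iff_eq_mul, mul_inv_eq_iff_eq_mul]
    have ej : we (PermWord.flipL (bl j)) = (bW ⟨j, hj⟩)⁻¹ := we_flip (bl_even ⟨j, hj⟩)
    have ei : we (PermWord.flipL (bl i)) = (bW ⟨i, hi⟩)⁻¹ := we_flip (bl_even ⟨i, hi⟩)
    match f with
    | 0 => simp only [PermWord.InvCert.target, ej] at m2 m3; exact Or.inl ⟨m2, m3⟩
    | 1 => simp only [PermWord.InvCert.target, ei] at m2 m3; exact Or.inr (Or.inl ⟨m2, m3⟩)
    | 2 => simp only [PermWord.InvCert.target] at m2 m3; exact Or.inr (Or.inr (Or.inl ⟨m2, m3⟩))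
    | f + 3 => simp only [PermWord.InvCert.target, ej, ei] at m2 m3
               exact Or.inr (Or.inr (Or.inr ⟨m2, m3⟩))
  have hbb : ∀ k m, Commute (bW k) (bW m) ∧ E.cm (bW k) (bW m) = 1 := by
    intro k m
    refine ⟨bb_comm k m, ?_⟩
    rcases hcov k k.2 m m.2 with e | ⟨p, hp, ⟨e1, e2⟩ | ⟨e1, e2⟩⟩
    · rw [Fin.ext e]; exact E.cm_self _
    · have := hpair p hp (by omega) (by omega)
      simp only [e1, e2] at this
      exact this
    · have := hpair p hp (by omega) (by omega)
      simp only [e1, e2] at this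
      rw [← E.cm_inv, this, inv_one]
  have hrs : ∀ a ∈ ({rW, sW} : Set WGrp), ∀ b ∈ ({rW, sW} : Set WGrp),
      Commute a b ∧ E.cm a b = 1 := by
    rintro a (ha | ha) b (hb | hb) <;>
      try simp only [Set.mem_singleton_iff] at ha hb
    all_goals subst ha hb
    · exact ⟨Commute.refl _, E.cm_self _⟩
    · exact ⟨rs_comm, hcm⟩
    · exact ⟨rs_comm.symm, by rw [← E.cm_inv, hcm, inv_one]⟩
    · exact ⟨Commute.refl _, E.cm_self _⟩
  have hcent : ∀ j, j < 4 → E.cm (if j < 2 then rW else sW) (centW j) = 1 := by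
    intro j hj
    have hx : we (if j < 2 then rl else sl) = (if j < 2 then rW else sW) := by
      split <;> rfl
    have m1 := eq_upper (mem_cent hj List.mem_cons_self)
    have m2 := eq_upper (mem_cent hj (List.mem_cons_of_mem _ List.mem_cons_self))
    have m3 := eq_upper (mem_cent hj
      (List.mem_cons_of_mem _ (List.mem_cons_of_mem _ List.mem_cons_self)))
    simp only [wp_append, wp_cons, wp_nil, mul_one, hx] at m1 m2 m3
    exact KilledSplit.cm_eq_one_of_map E hrs m1 (rsWord_mem _) (rsWord_mem _)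
      (g := we (centOf j).2.2.1) (mul_inv_eq_iff_eq_mul.2 m2) (mul_inv_eq_iff_eq_mul.2 m3)
  refine KilledSplit.killed E bW rW sW {centW 0, centW 1} {centW 2, centW 3} pairW bW_cube hbb
    rs_comm hcm (fun k => ?_) (fun k => ?_) ?_ ?_ (fun i => ⟨vWord_mem _, vWord_mem _⟩)
    (fun k => ?_) ?_
  · rw [show rW * bW k * rW⁻¹ = _ from real.hconj_r k]
    have hm : ∀ (l : Fin 4) (a : ZMod 3), SplitModel.zp (bW l) a ∈ Subgroup.closure (Set.range bW) :=
      fun l a => pow_mem (Subgroup.subset_closure (k := Set.range bW) ⟨l, rfl⟩) _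
    exact mul_mem (mul_mem (mul_mem (hm 0 _) (hm 1 _)) (hm 2 _)) (hm 3 _)
  · rw [show sW * bW k * sW⁻¹ = _ from real.hconj_s k]
    have hm : ∀ (l : Fin 4) (a : ZMod 3), SplitModel.zp (bW l) a ∈ Subgroup.closure (Set.range bW) :=
      fun l a => pow_mem (Subgroup.subset_closure (k := Set.range bW) ⟨l, rfl⟩) _
    exact mul_mem (mul_mem (mul_mem (hm 0 _) (hm 1 _)) (hm 2 _)) (hm 3 _)
  · rintro c (hc | hc)
    · rw [hc]; exact ⟨vWord_mem _, hcent 0 (by norm_num)⟩
    · rw [Set.mem_singleton_iff.1 hc]; exact ⟨vWord_mem _, hcent 1 (by norm_num)⟩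
  · rintro c (hc | hc)
    · rw [hc]; exact ⟨vWord_mem _, hcent 2 (by norm_num)⟩
    · rw [Set.mem_singleton_iff.1 hc]; exact ⟨vWord_mem _, hcent 3 (by norm_num)⟩
  · have pm : ∀ (s : Set WGrp) (c d : WGrp) (x y : ℕ), c ∈ s → d ∈ s →
        c ^ x * d ^ y ∈ Subgroup.closure s := fun s c d x y hc hd =>
      mul_mem (pow_mem (Subgroup.subset_closure hc) _) (pow_mem (Subgroup.subset_closure hd) _)
    have key : ∀ m : ℕ, ∀ a c : WGrp, wp (relLeft m) = a → wp (relRight m) = c →
        KilledSplit.Relation rW sW (Subgroup.closure (Set.range bW))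
          (Subgroup.closure {centW 0, centW 1}) (Subgroup.closure {centW 2, centW 3}) pairW a c :=
      fun m a c ha hc => ⟨⟨_, _, vWord_mem _, _, pm _ _ _ _ _ (Or.inl rfl) (Or.inr rfl), _,
        pm _ _ _ _ _ (Or.inl rfl) (Or.inr rfl), ha.symm.trans (wp_relLeft m),
        hc.symm.trans (wp_relRight m)⟩⟩
    have h1 := eq_upper (mem_rel k.2 List.mem_cons_self)
    have h2 := eq_upper (mem_rel k.2 (List.mem_cons_of_mem _ List.mem_cons_self))
    have h3 := eq_upper (mem_rel k.2
      (List.mem_cons_of_mem _ (List.mem_cons_of_mem _ List.mem_cons_self)))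
    have h4 := eq_upper (mem_rel k.2
      (List.mem_cons_of_mem _ (List.mem_cons_of_mem _ (List.mem_cons_of_mem _ List.mem_cons_self))))
    rw [wp_cons, wp_nil, mul_one] at h1 h4
    rw [wp_nil] at h2 h3
    exact ⟨key _ _ _ h1.symm h2.symm, key _ _ _ h3.symm h4.symm⟩
  · rw [← image_bound]
    refine PermWord.card_closure_ge two_pow_nine slp_ok image_slp image_low image_code fun r hr => ?_
    obtain ⟨k, hk, rfl⟩ := List.getElem_of_mem hr
    have hk3 : k < 3 := lt_of_lt_of_le hk (by unfold imageLetters; decide)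
    refine ⟨⟨k, hk3⟩, ?_⟩
    show ⁅rW, (pairW ⟨k, hk3⟩).1⁆ * ⁅sW, (pairW ⟨k, hk3⟩).2⁆ = we _
    rw [← image_eq, List.getD_eq_getElem _ _ hk]

theorem three_index : ¬ 3 ∣ sylThree.index := by
  refine not_dvd_index (k := 6) ?_ (by norm_num)
  rw [sylThree_spec.2.1]
  norm_num

/-- The 3-part of every stem kernel is cyclic of order at most three. -/
theorem exists_gen_three {Γ : Type} [Group Γ] [Finite Γ] (σ : Γ →* WGrp)
    (hσ : Cfsg.IsStemExtension σ) :
    ∃ e ∈ σ.ker, e ^ 3 = 1 ∧ ∀ z ∈ σ.ker, ∀ k : ℕ, z ^ 3 ^ k = 1 → z ∈ Subgroup.zpowers e :=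
  ThreeBound.exists_gen (by norm_num) three_index rs_comm rW_cube
    (fun _ _ _ E h => killed_three E h) σ hσ

end Cfsg.Agent.H95.McL
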