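import Cfsg.Agent.H95.McL.TwoFive
import Cfsg.Agent.H95.McL.Upper
import Cfsg.Agent.H95.McL.Lower
import Cfsg.Agent.H50.UFour.Mult
import Cfsg.Agent.H50.MultiplierBound

/-!
The Schur multiplier of McL is cyclic of order three.
-/

set_option autoImplicit false

namespace Cfsg.Agent.H95.McL

open Cfsg

attribute [local irreducible] mclSlp mclSteps

theorem exists_surjective_three {Γ : Type} [Group Γ] [Finite Γ] (σ : Γ →* WGrp)
    (hσ : IsStemExtension σ) :
    ∃ f : Multiplicative (ZMod 3) →* σ.ker, Function.Surjective f := by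
  have hone : ∀ l : ℕ, l.Prime → l ≠ 3 → ∀ z ∈ σ.ker, ∀ k : ℕ, z ^ l ^ k = 1 → z = 1 := by
    intro l hl h3 z hz k hzk
    have hnd := H50.UFour.not_dvd_card_of_noStem hσ hl (noStem_ne_three hl h3)
    have h1 := orderOf_dvd_of_pow_eq_one hzk
    have h2 := orderOf_dvd_natCard (⟨z, hz⟩ : σ.ker)
    rw [Subgroup.orderOf_mk] at h2
    exact orderOf_eq_one_iff.1 (Nat.eq_one_of_dvd_coprimes
      (Nat.Coprime.pow_left k (hl.coprime_iff_not_dvd.2 hnd)) h1 h2)
  exact H50.exists_surjective_of_parts (n₂ := 1) (n₃ := 3) hσ (by norm_num)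
    ⟨1, one_mem _, one_pow _, fun z hz k hk => by
      rw [hone 2 Nat.prime_two (by norm_num) z hz k hk]; exact one_mem _⟩
    (exists_gen_three σ hσ)
    (fun p hp _ h3 z hz hzp => hone p hp h3 z hz 1 (by rwa [pow_one]))

/-- The multiplier of the permutation group. -/
theorem hasMultiplier : HasCyclicSchurMultiplier WGrp 3 :=
  ⟨exists_stem_three, fun _ _ _ σ hσ => exists_surjective_three σ hσ⟩

/-- The multiplier of McL. -/
theorem hasMultiplier_mcl : HasCyclicSchurMultiplier ↥Spor.McL 3 := by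
  obtain ⟨e⟩ := mcl_equiv
  obtain ⟨⟨Γ, i, j, σ, hσ, ⟨a⟩⟩, hall⟩ := hasMultiplier
  refine ⟨⟨Γ, i, j, e.symm.toMonoidHom.comp σ, ?_, ?_⟩, fun Γ' _ _ τ hτ => ?_⟩
  · have hk : (e.symm.toMonoidHom.comp σ).ker = σ.ker := by ext z; simp
    exact ⟨e.symm.surjective.comp hσ.1, hk ▸ hσ.2.1, hk ▸ hσ.2.2⟩
  · have hk : (e.symm.toMonoidHom.comp σ).ker = σ.ker := by ext z; simp
    exact ⟨(MulEquiv.subgroupCongr hk).trans a⟩
  · have hk : (e.toMonoidHom.comp τ).ker = τ.ker := by ext z; simp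
    obtain ⟨f, hf⟩ := hall Γ' (e.toMonoidHom.comp τ)
      ⟨e.surjective.comp hτ.1, hk ▸ hτ.2.1, hk ▸ hτ.2.2⟩
    exact ⟨(MulEquiv.subgroupCongr hk).toMonoidHom.comp f,
      (MulEquiv.subgroupCongr hk).surjective.comp hf⟩

end Cfsg.Agent.H95.McL
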