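import Cfsg.Agent.H95.McL.CheckSlp
import Cfsg.Agent.H32.OutMcL.Main

/-!
The McLaughlin group as a permutation group on 275 points.
-/

set_option autoImplicit false
set_option maxRecDepth 8000

namespace Cfsg.Agent.H95.McL

open Cfsg Cfsg.Agent.Compute Cfsg.Agent.Golay Cfsg.Agent.H92.LeechOrbit Cfsg.Agent.H32.OutMcL MulAction

attribute [local irreducible] PermLower.lowOK PermIso.slpOK mclSlp mclSteps H32.OutMcL.prog
  H32.OutMcL.vals permDen getP

theorem two_pow_nine : (275 : ℕ) ≤ 2 ^ 9 := by norm_num

/-- McL on 275 points. -/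
noncomputable abbrev WGrp : Subgroup (Equiv.Perm (Fin 275)) := PermLower.genGrp 9 275 5 mclSlp

/-- The action. -/
noncomputable abbrev act : McG →* Equiv.Perm (Fin 275) := MulAction.toPermHom McG (Fin 275)

theorem at_eq (P i : ℕ) : at' P i = getP 9 P i := by
  unfold getP
  rfl

theorem act_el {k : ℕ} (hk : k < 5) :
    act (H32.OutMcL.el k) = permDen 9 275 (PermLower.codeAt mclSlp k) := by
  have hp : k < H32.OutMcL.prog.length :=
    of_decide_eq_true (allBelow_spec gen_vals k hk)
  have ok := (PermLower.entry_mem two_pow_nine slp_ok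
    (lt_of_lt_of_le hk (Nat.le_of_ble_eq_true slp_len))).1
  refine Equiv.ext fun i => Fin.ext ?_
  rw [MulAction.toPermHom_apply, MulAction.toPerm_apply, rep_el hp i, permDen_apply ok, valOf,
    ← Nat.beq_eq.mp ((allN_iff _ _).1 slp_gens k hk), at_eq]

theorem wGrp_le : WGrp ≤ act.range := by
  refine (Subgroup.closure_le _).2 ?_
  rintro σ ⟨k, hk, rfl⟩
  exact ⟨H32.OutMcL.el k, act_el hk⟩

theorem card_ge : 898128000 ≤ Nat.card WGrp := by
  rw [← bound_eq]
  exact PermLower.card_ge two_pow_nine slp_ok low_ok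

theorem act_spec : Function.Bijective act.rangeRestrict ∧ act.range = WGrp := by
  have h1 : Function.Surjective act.rangeRestrict := act.rangeRestrict_surjective
  have h2 : Nat.card act.range ≤ 898128000 :=
    (Nat.card_le_card_of_surjective _ h1).trans card_mclG.le
  refine ⟨h1.bijective_of_nat_card_le ?_, ?_⟩
  · rw [card_mclG]
    exact card_ge.trans (Nat.card_mono (Set.toFinite _) wGrp_le)
  · exact (Subgroup.eq_of_le_of_card_ge wGrp_le (h2.trans card_ge)).symm

/-- The certified stabiliser is the permutation group. -/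
noncomputable def mcgEquiv : McG ≃* WGrp :=
  (MulEquiv.ofBijective act.rangeRestrict act_spec.1).trans (MulEquiv.subgroupCongr act_spec.2)

/-- The order. -/
theorem card_wGrp : Nat.card WGrp = 898128000 := by
  rw [← Nat.card_congr mcgEquiv.toEquiv, card_mclG]

/-- McL is the permutation group. -/
theorem mcl_equiv : Nonempty (↥Spor.McL ≃* WGrp) := by
  obtain ⟨k, k1, k2⟩ := exists_move_edge Spor.leechV (-Spor.leechU) leech_edge.1
    ⟨leech_edge.2.1, leech_edge.2.2⟩
  have hp : k • (Spor.leechV, -Spor.leechU) = ((refU, refV) : leechLattice × leechLattice) :=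
    Prod.ext k1 k2
  let E : McG ≃* Spor.McL :=
    (((MulEquiv.subgroupCongr (mclG_eq.trans (stabilizer_inf_eq_prod refU refV))).trans
      (MulAction.stabilizerEquivStabilizer hp.symm).symm).trans
      (MulEquiv.subgroupCongr (stabilizer_inf_eq_prod _ _)).symm).trans
      ((mclStab.equivMapOfInjective _ Co0.subtype_injective).trans
        (MulEquiv.subgroupCongr map_mclStab))
  exact ⟨E.symm.trans mcgEquiv⟩

end Cfsg.Agent.H95.McL
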