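import Cfsg.Agent.H95.McL.CheckTwoFive
import Cfsg.Agent.H95.McL.Common
import Cfsg.Agent.H95.Transfer.KilledHeisenberg
import Cfsg.Agent.H94.Mult.ThreePart

/-!
McL has no stem extension with kernel of prime order other than three.
-/

set_option autoImplicit false
set_option maxRecDepth 8000

namespace Cfsg.Agent.H95.McL

open Cfsg Cfsg.Agent.Compute Cfsg.Agent.Linear.Mult Cfsg.Agent.H95 Cfsg.Agent.H94.Mult
open scoped commutatorElement

attribute [local irreducible] PermLower.lowOK PermIso.slpOK mclSlp mclSteps twoSlp fiveSlp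
  twoCert twoLetters fiveLetters fiveWit twoEqs fiveEqs permDen getP

theorem eq_two {u v : List ℕ} (h : (u, v) ∈ twoEqs) : wp u = wp v :=
  PermWord.eq_of_eqsOK two_pow_nine slp_ok two_eqs h

/-- The model of the Sylow 2-subgroup. -/
noncomputable def twoModel : Model twoCert.R WGrp where
  G k := we (twoLetters.getD k 0)
  V _ := 1
  V_zero := rfl
  V_xor _ _ := (one_mul _).symm
  V_central _ x := by rw [one_mul, mul_one]
  sq_rule i hi := by
    have h := eq_two (u := [twoLetters.getD i 0, twoLetters.getD i 0])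
      (v := twoWord (twoCert.R.sqRule i).1) (by
        unfold twoEqs
        exact List.mem_append_left _ (List.mem_append_left _ (List.mem_flatMap.2
          ⟨i, List.mem_range.2 hi, List.mem_cons_self⟩)))
    rw [mul_one]
    simpa [wp, twoWord, List.map_map, Function.comp_def] using h
  cm_rule i j hij hj := by
    have h := eq_two (u := [twoLetters.getD j 0, twoLetters.getD i 0])
      (v := [twoLetters.getD i 0, twoLetters.getD j 0] ++ twoWord (twoCert.R.cmRule j i).1) (by
        unfold twoEqs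
        exact List.mem_append_left _ (List.mem_append_left _ (List.mem_flatMap.2 ⟨j,
          List.mem_range.2 hj,
          List.mem_cons_of_mem _ (List.mem_map.2 ⟨i, List.mem_range.2 hij, rfl⟩)⟩)))
    rw [mul_one]
    simpa [wp, twoWord, List.map_map, Function.comp_def, mul_assoc] using h

theorem nf_eq (u : ℕ) : twoModel.nf u = wp (twoWord u) := by
  simp [wp, twoWord, List.map_map, Function.comp_def, Model.nf, twoModel]

theorem noStem_two : NoStem 2 WGrp := by
  refine noStem_of_killed Nat.prime_two fun Γ _ _ E => ⟨twoCert.grp twoModel, ?_⟩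
  have hlens := two_conj
  rw [Bool.and_eq_true, beq_iff_eq, beq_iff_eq] at hlens
  have hconj : ∀ {g u v : ℕ}, wp (g :: twoWord u) = wp (twoWord v ++ [g]) →
      we g * twoModel.nf u * (we g)⁻¹ = twoModel.nf v := fun {g u v} h => by
    rw [nf_eq, nf_eq, mul_inv_eq_iff_eq_mul, ← wp_cons, h, wp_append, wp_cons, wp_nil, mul_one]
  have hfus : ∀ p ∈ twoCert.sqEqs, ∃ g : WGrp,
      g * twoModel.nf p.1 * g⁻¹ = twoModel.nf p.2 := by
    intro p hp
    obtain ⟨k, hk, rfl⟩ := List.getElem_of_mem hp
    have hk' : k < twoConj.length := lt_of_lt_of_eq hk hlens.1.symm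
    refine ⟨we twoConj[k], hconj (eq_two ?_)⟩
    unfold twoEqs
    refine List.mem_append_left _ (List.mem_append_right _
      (List.mem_map.2 ⟨(twoCert.sqEqs[k], twoConj[k]), ?_, rfl⟩))
    exact List.mem_iff_getElem.2 ⟨k, by simp [hk, hk'], by simp⟩
  have hfus₂ : ∀ p ∈ twoCert.cmEqs, ∃ g : WGrp, g * twoModel.nf p.1.1 * g⁻¹ = twoModel.nf p.2.1 ∧
      g * twoModel.nf p.1.2 * g⁻¹ = twoModel.nf p.2.2 := by
    intro p hp
    obtain ⟨k, hk, rfl⟩ := List.getElem_of_mem hp
    have hk' : k < twoConjPairs.length := lt_of_lt_of_eq hk hlens.2.symm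
    have hm : (twoCert.cmEqs[k], twoConjPairs[k]) ∈ twoCert.cmEqs.zip twoConjPairs :=
      List.mem_iff_getElem.2 ⟨k, by simp [hk, hk'], by simp⟩
    refine ⟨we twoConjPairs[k], hconj (eq_two ?_), hconj (eq_two ?_)⟩
    · unfold twoEqs
      exact List.mem_append_right _ (List.mem_flatMap.2 ⟨_, hm, List.mem_cons_self⟩)
    · unfold twoEqs
      exact List.mem_append_right _ (List.mem_flatMap.2 ⟨_, hm,
        List.mem_cons_of_mem _ List.mem_cons_self⟩)
  have hlen : twoCert.R.n = 7 := by unfold twoCert; rfl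
  have hge : 2 ^ twoCert.R.n ≤ Nat.card (twoCert.grp twoModel) := by
    rw [hlen, show (2 : ℕ) ^ 7 = PermLower.bound twoSteps from two_bound.symm]
    refine PermWord.card_closure_ge two_pow_nine slp_ok two_slp two_low two_code fun r hr => ?_
    obtain ⟨k, hk, rfl⟩ := List.getElem_of_mem hr
    refine ⟨k, ?_, ?_⟩
    · rw [hlen]; exact lt_of_lt_of_le hk (by unfold twoLetters; decide)
    · show we (twoLetters.getD k 0) = _
      rw [List.getD_eq_getElem _ _ hk]
  obtain ⟨hk, hc⟩ := twoCert.killed E twoModel (fun _ => rfl) two_rules two_closed two_forms hfus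
    hfus₂ hge
  exact ⟨hk, not_dvd_index (dvd_of_eq (hc.trans (by rw [hlen])).symm) (by norm_num)⟩

theorem eq_five {u v : List ℕ} (h : (u, v) ∈ fiveEqs) : wp u = wp v :=
  PermWord.eq_of_eqsOK two_pow_nine slp_ok five_eqs h

theorem noStem_five : NoStem 5 WGrp := by
  have h5 : (5 : ℕ).Prime := by norm_num
  have := Fact.mk h5
  set a := we (fl 0) with ha
  set b := we (fl 1) with hb
  set c := we (fl 2) with hc
  have ha5 : a ^ 5 = 1 := by
    have := eq_five (u := List.replicate 5 (fl 0)) (v := []) (by simp [fiveEqs])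
    rwa [wp_replicate] at this
  have hb5 : b ^ 5 = 1 := by
    have := eq_five (u := List.replicate 5 (fl 1)) (v := []) (by simp [fiveEqs])
    rwa [wp_replicate] at this
  have hab : ⁅a, b⁆ = c := by
    have := eq_five (u := [fl 0, fl 1]) (v := [fl 2, fl 1, fl 0]) (by simp [fiveEqs])
    simp only [wp_cons, wp_nil, mul_one, ← ha, ← hb, ← hc] at this
    rw [commutatorElement_def, this]
    group
  have hev := five_even
  simp only [Bool.and_eq_true, beq_iff_eq] at hev
  have hcomm : ∀ k, k < 2 → Commute (we (fl k)) c := fun k hk => by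
    have h := eq_five (u := [fl k, fl 2]) (v := [fl 2, fl k]) (by
      unfold fiveEqs
      exact List.mem_append_right _
        (List.mem_flatMap.2 ⟨k, List.mem_range.2 hk, List.mem_cons_self⟩))
    simpa [wp, Commute, SemiconjBy] using h
  have hcm : ∀ (Γ : Type) [Group Γ] (E : LExt 5 Γ WGrp) (k : ℕ), k < 2 →
      E.cm (we (fl k)) c = 1 := by
    intro Γ _ E k hk
    have hek : fl k % 2 = 0 := by
      interval_cases k
      exacts [hev.1.1, hev.1.2]
    have m2 := eq_five (u := [(fivePair k).2.2.1, fl k])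
      (v := [(PermWord.InvCert.target (fivePair k)).1, (fivePair k).2.2.1]) (by
      unfold fiveEqs
      exact List.mem_append_right _ (List.mem_flatMap.2 ⟨k, List.mem_range.2 hk,
        List.mem_cons_of_mem _ List.mem_cons_self⟩))
    have m3 := eq_five (u := [(fivePair k).2.2.1, fl 2])
      (v := [(PermWord.InvCert.target (fivePair k)).2, (fivePair k).2.2.1]) (by
      unfold fiveEqs
      exact List.mem_append_right _ (List.mem_flatMap.2 ⟨k, List.mem_range.2 hk,
        List.mem_cons_of_mem _ (List.mem_cons_of_mem _ List.mem_cons_self)⟩))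
    simp only [wp_cons, wp_nil, mul_one] at m2 m3
    refine KilledInverted.cm_eq_one_of_conj E (by norm_num) (hcomm k hk)
      (we (fivePair k).2.2.1) ?_
    rw [mul_inv_eq_iff_eq_mul, mul_inv_eq_iff_eq_mul, mul_inv_eq_iff_eq_mul, mul_inv_eq_iff_eq_mul,
      mul_inv_eq_iff_eq_mul, mul_inv_eq_iff_eq_mul, mul_inv_eq_iff_eq_mul, mul_inv_eq_iff_eq_mul]
    obtain ⟨g, f, hf⟩ : ∃ g f, fivePair k = (fl k, fl 2, g, f) := ⟨_, _, rfl⟩
    rw [hf] at m2 m3 ⊢
    match f with
    | 0 => simp only [PermWord.InvCert.target, we_flip hek] at m2 m3; exact Or.inl ⟨m2, m3⟩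
    | 1 => simp only [PermWord.InvCert.target, we_flip hev.2] at m2 m3
           exact Or.inr (Or.inl ⟨m2, m3⟩)
    | 2 => simp only [PermWord.InvCert.target] at m2 m3; exact Or.inr (Or.inr (Or.inl ⟨m2, m3⟩))
    | f + 3 => simp only [PermWord.InvCert.target, we_flip hek, we_flip hev.2] at m2 m3
               exact Or.inr (Or.inr (Or.inr ⟨m2, m3⟩))
  set H := Subgroup.closure ({a, b} : Set WGrp) with hHdef
  have hge : 125 ≤ Nat.card H := by
    have hle : Subgroup.closure ({a, b, c} : Set WGrp) ≤ H := by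
      rw [Subgroup.closure_le]
      have hain : a ∈ H := Subgroup.subset_closure (Or.inl rfl)
      have hbin : b ∈ H := Subgroup.subset_closure (Or.inr rfl)
      rintro x (hx | hx | hx)
      · exact hx ▸ hain
      · exact hx ▸ hbin
      · rw [Set.mem_singleton_iff.1 hx, ← hab, commutatorElement_def]
        exact mul_mem (mul_mem (mul_mem hain hbin) (inv_mem hain)) (inv_mem hbin)
    refine le_trans ?_ (Nat.card_mono (Set.toFinite _) hle)
    rw [← five_bound]
    refine PermWord.card_closure_ge two_pow_nine slp_ok five_slp five_low five_code fun r hr => ?_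
    obtain ⟨k, hk, rfl⟩ := List.getElem_of_mem hr
    have hk3 : k < 3 := lt_of_lt_of_le hk (by unfold fiveLetters; decide)
    have e : fiveLetters[k] = fl k := (List.getD_eq_getElem _ _ hk).symm
    show we fiveLetters[k] ∈ _
    rw [e]
    interval_cases k
    · exact Or.inl rfl
    · exact Or.inr (Or.inl rfl)
    · exact Or.inr (Or.inr rfl)
  have hc5 : c ^ 5 = 1 := by
    have := eq_five (u := List.replicate 5 (fl 2)) (v := []) (by simp [fiveEqs])
    rwa [wp_replicate] at this
  obtain ⟨hle, hle1⟩ := KilledHeisenberg.card_closure_le (by norm_num : 0 < 5) ha5 hb5 hc5 hab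
    (hcomm 0 (by norm_num)) (hcomm 1 (by norm_num))
  have hH : Nat.card H = 125 := le_antisymm hle hge
  refine noStem_of_killed h5 fun Γ _ _ E => ⟨H, ?_, ?_⟩
  · refine KilledHeisenberg.killed E hab ha5 ?_ (hcm Γ E 0 (by norm_num)) (hcm Γ E 1 (by norm_num))
    intro hc1
    have h25 := hle1 hc1
    rw [← hHdef, hH] at h25
    exact absurd h25 (by norm_num)
  · refine not_dvd_index (k := 3) ?_ (by norm_num)
    rw [hH]; norm_num

theorem noStem_ne_three {l : ℕ} (hl : l.Prime) (h3 : l ≠ 3) : NoStem l WGrp := by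
  by_cases h2 : l = 2
  · exact h2 ▸ noStem_two
  by_cases h5 : l = 5
  · exact h5 ▸ noStem_five
  intro Γ _ _ σ hσ
  refine H94.Mult.noStem_cyclic σ hl (fun hd => ?_) hσ
  rw [card_wGrp, show 898128000 = (2 ^ 7 * (3 ^ 6 * 5 ^ 3)) * (7 * 11) by norm_num] at hd
  have hc : ∀ p : ℕ, p.Prime → l ≠ p → ∀ a, Nat.Coprime (l ^ 2) (p ^ a) := fun p hp h a =>
    Nat.Coprime.pow 2 a ((Nat.coprime_primes hl hp).2 h)
  have hd' := (((hc 2 Nat.prime_two h2 7).mul_right ((hc 3 Nat.prime_three h3 6).mul_right
    (hc 5 (by norm_num) h5 3))).dvd_of_dvd_mul_left hd)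
  have hle : l ≤ 9 := by have := Nat.le_of_dvd (by norm_num) hd'; nlinarith
  have := hl.two_le
  interval_cases l <;> revert hd' <;> norm_num

end Cfsg.Agent.H95.McL
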